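import Groth.Agent.CohVanish.Global
import Groth.Agent.KerDerived.Local
import Groth.Agent.KerDerived.ExtComp

/-!
Cohomology with supports and restriction along open embeddings.
-/

set_option autoImplicit false
set_option linter.style.haveILetI false
set_option backward.isDefEq.respectTransparency false
set_option backward.isDefEq.respectTransparency.types false
universe u

open CategoryTheory CategoryTheory.Limits Opposite TopologicalSpace Abelian

namespace Groth.Agent.KoszulHZ

/-- Restriction along an open embedding preserves short exact sequences. -/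
theorem shortExact_restrictSh {X' X : TopCat.{u}} {j : X' ⟶ X} (hj : Topology.IsOpenEmbedding j)
    {S : ShortComplex (CohVanish.AbSh X)} (hS : S.ShortExact) : (S.map (CohVanish.restrictSh hj)).ShortExact := by
  refine CohVanish.shortExact_map_of_epi _ hS (CohVanish.epi_of_local_lifts _ fun U q x hx => ?_)
  obtain ⟨W, hW, hxW, t, ht⟩ := CohVanish.exists_lift_near hS (hj.isOpenMap.functor.obj U) q (j x) ⟨x, hx, rfl⟩
  have hle : hj.isOpenMap.functor.obj ((Opens.map j).obj W) ≤ W := by
    rintro _ ⟨y, hy, rfl⟩; exact hy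
  have hWU : (Opens.map j).obj W ≤ U := fun y hy => by
    obtain ⟨z, hz, hzy⟩ := hW hy
    exact hj.injective hzy ▸ hz
  refine ⟨(Opens.map j).obj W, hWU, hxW, S.X₂.obj.map (homOfLE hle).op t, ?_⟩
  refine (congr($(S.g.hom.naturality (homOfLE hle).op) t)).trans ?_
  change S.X₃.obj.map _ (S.g.hom.app _ t) = _
  rw [ht]
  exact congr($((S.X₃.obj.map_comp (homOfLE hW).op (homOfLE hle).op).symm) q)

theorem rightExact_restrictSh {X' X : TopCat.{u}} {j : X' ⟶ X} (hj : Topology.IsOpenEmbedding j) :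
    PreservesFiniteColimits (CohVanish.restrictSh hj) :=
  (((Functor.exact_tfae (CohVanish.restrictSh hj)).out 0 3 rfl rfl).1 fun _ hS => shortExact_restrictSh hj hS).2

theorem exists_e₀ {X' X : TopCat.{u}} {j : X' ⟶ X} (hj : Topology.IsOpenEmbedding j) {W V : Opens X} (h : W ≤ V)
    (hjV : hj.isOpenMap.functor.obj ⊤ = V) :
    Nonempty (extFunctorObj (LocCohZ.zq h) 0 ≅ CohVanish.restrictSh hj ⋙
      extFunctorObj (LocCohZ.zq (le_top : (Opens.map j).obj W ≤ ⊤)) 0) := by
  let R := CohVanish.restrictSh hj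
  let W' := (Opens.map j).obj W
  let img := hj.isOpenMap.functor
  have hV : img.obj ⊤ ≤ V := hjV.le
  have hV' : V ≤ img.obj ⊤ := hjV.ge
  have hW : img.obj W' ≤ W := by rintro _ ⟨y, hy, rfl⟩; exact hy
  have hW' : W ≤ img.obj W' := fun y hy => by
    obtain ⟨z, -, rfl⟩ := hV' (h hy)
    exact ⟨z, hy, rfl⟩
  have key : ∀ (F : CohTop.Ab X) (x : LocCohZ.HZ F 0 h), (R.obj F).obj.map (homOfLE (le_top : W' ≤ ⊤)).op
      (F.obj.map (homOfLE hV).op (KerDerived.z0 h x)) = 0 := fun F x => by
    have hx : F.obj.map (homOfLE h).op (KerDerived.z0 h x) = 0 := (LocCohZ.sect0Equiv F h x).2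
    change (F.obj.map _ ≫ F.obj.map (img.map (homOfLE (le_top : W' ≤ ⊤))).op).hom (KerDerived.z0 h x) = 0
    rw [← F.obj.map_comp, Subsingleton.elim (_ ≫ _) ((homOfLE h).op ≫ (homOfLE hW).op), F.obj.map_comp]
    exact (congrArg (F.obj.map (homOfLE hW).op) hx).trans (map_zero _)
  let f : ∀ F, LocCohZ.HZ F 0 h →+ LocCohZ.HZc (R.obj F) 0 W' := fun F => AddMonoidHom.mk'
    (fun x => (LocCohZ.sect0Equiv (R.obj F) le_top).symm ⟨_, key F x⟩) (fun a b => by
      rw [← map_add]
      congr 1
      apply Subtype.ext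
      exact (congrArg (F.obj.map (homOfLE hV).op) (congrArg Subtype.val (map_add (LocCohZ.sect0Equiv F h) a b))).trans
        (map_add _ _ _))
  have hf : ∀ F x, KerDerived.z0 le_top (f F x) = F.obj.map (homOfLE hV).op (KerDerived.z0 h x) :=
    fun F x => congrArg Subtype.val ((LocCohZ.sect0Equiv (R.obj F) le_top).apply_symm_apply _)
  have hb : ∀ F, Function.Bijective (f F) := fun F => by
    refine ⟨fun a b hab => KerDerived.z0_injective _ ?_, fun y => ?_⟩
    · have hh := congrArg (fun z : LocCohZ.HZc (R.obj F) 0 W' => F.obj.map (homOfLE hV').op (KerDerived.z0 (F := R.obj F) le_top z)) hab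
      simp only [hf] at hh
      simpa [← ConcreteCategory.comp_apply, ← F.obj.map_comp, Subsingleton.elim ((homOfLE hV).op ≫ (homOfLE hV').op) (𝟙 (op V))] using hh
    · let s := KerDerived.z0 le_top y
      obtain ⟨x, hx⟩ := KerDerived.exists_z0 h (F.obj.map (homOfLE hV').op s) (by
        have hs : F.obj.map (img.map (homOfLE (le_top : W' ≤ ⊤))).op s = 0 := (LocCohZ.sect0Equiv (R.obj F) le_top y).2
        change (F.obj.map _ ≫ F.obj.map _).hom s = 0
        rw [← F.obj.map_comp, Subsingleton.elim (_ ≫ _) ((img.map (homOfLE (le_top : W' ≤ ⊤))).op ≫ (homOfLE hW').op),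
          F.obj.map_comp]
        exact (congrArg (F.obj.map (homOfLE hW').op) hs).trans (map_zero _))
      refine ⟨x, KerDerived.z0_injective _ ?_⟩
      rw [hf, hx]
      change (F.obj.map _ ≫ F.obj.map _).hom s = s
      rw [← F.obj.map_comp, Subsingleton.elim (_ ≫ _) (𝟙 _), F.obj.map_id]
      rfl
  refine ⟨NatIso.ofComponents (fun F => AddEquiv.toAddCommGrpIso (X := (extFunctorObj (LocCohZ.zq h) 0).obj F)
    (Y := (R ⋙ extFunctorObj (LocCohZ.zq (le_top : W' ≤ ⊤)) 0).obj F) (AddEquiv.ofBijective (f F) (hb F))) fun {F G} φ => ?_⟩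
  ext x
  change f G (LocCohZ.map φ 0 h x) = LocCohZ.map (R.map φ) 0 le_top (f F x)
  apply KerDerived.z0_injective
  rw [hf, KerDerived.z0_map, KerDerived.z0_map, hf]
  exact (ConcreteCategory.congr_hom (φ.hom.naturality (homOfLE hV).op) _).symm

/-- `H^i_{V∖W}(V, F)` computed on a space mapping onto `V` by an open embedding. -/
theorem nonempty_HZ_restrict_equiv {X' X : TopCat.{u}} {j : X' ⟶ X} (hj : Topology.IsOpenEmbedding j)
    (F : CohTop.Ab X) {W V : Opens X} (h : W ≤ V) (hjV : hj.isOpenMap.functor.obj ⊤ = V) (i : ℕ) :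
    Nonempty (LocCohZ.HZ F i h ≃+
      LocCohZ.HZc ((CohVanish.restrictSh hj).obj F) i ((Opens.map j).obj W)) := by
  haveI := rightExact_restrictSh hj
  obtain ⟨e₀⟩ := exists_e₀ hj h hjV
  obtain ⟨e, -⟩ := KerDerived.exists_ext_comp_addEquiv (CohVanish.restrictSh hj) _ _ (fun I _ n => by
    haveI := CohVanish.isFlasque_of_injective I
    haveI : TopCat.Sheaf.IsFlasque ((CohVanish.restrictSh hj).obj I) := CohVanish.isFlasque_restrictSh hj I
    exact KerDerived.subsingleton_HZ_of_flasque _ le_top n) e₀ i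
  exact ⟨e F⟩

end Groth.Agent.KoszulHZ
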