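import Groth.Agent.KoszulHZ.Main
import Groth.Agent.KoszulHZ.Transfer
import Groth.Agent.LocCohLib.ExtVanishing
import Groth.Agent.DepthLib.RegularLocal
import Groth.Agent.QCohLib.Coherent
import Groth.Agent.QCohLib.StalkLoc
import Groth.Agent.QCohLib.FiniteType

/-!
Depth along a closed subset and vanishing of cohomology with supports, on affine opens.
-/

set_option autoImplicit false
set_option linter.style.haveILetI false
set_option backward.isDefEq.respectTransparency false
universe u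

open CategoryTheory CategoryTheory.Limits Opposite TopologicalSpace AlgebraicGeometry Abelian

namespace Groth.Agent.KoszulHZ

open Groth.Agent.CohVanish Groth.Agent.KoszulCone
open scoped Groth.Agent.CohVanish

/-- `n ≤ depth_I M` iff `H^i_{V(I)}(Spec R, M~) = 0` for `i < n`. -/
theorem natCast_le_idealDepth_iff {R : CommRingCat.{u}} [IsNoetherianRing R] (fs : List R)
    (M : ModuleCat.{u} R) [Module.Finite R M] (n : ℕ) :
    (n : ℕ∞) ≤ LocCoh.idealDepth (Ideal.span ({a | a ∈ fs} : Set R)) M ↔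
      ∀ i, i < n → Subsingleton (HZT fs M i) := by
  rw [LocCohLib.natCast_le_idealDepth_iff_vanishing]
  refine forall₂_congr fun i _ => ?_
  obtain ⟨e₁⟩ := nonempty_localCohomology_equiv fs i M
  obtain ⟨e₂⟩ := nonempty_equiv fs i M
  exact e₁.toEquiv.subsingleton_congr.trans e₂.toEquiv.subsingleton_congr

/-- Depth does not depend on the chosen localisation. -/
theorem depth_eq_localization {R S N N' : Type u} [CommRing R] (p : Ideal R) [p.IsPrime] [CommRing S]
    [Algebra R S] [IsLocalRing S] [IsLocalization.AtPrime S p] [AddCommGroup N] [Module R N] [AddCommGroup N']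
    [Module R N'] [Module S N'] [IsScalarTower R S N'] (f : N →ₗ[R] N') [IsLocalizedModule p.primeCompl f] :
    LocCoh.depth S N' = LocCoh.depth (Localization.AtPrime p) (LocalizedModule p.primeCompl N) := by
  let L := Localization.AtPrime p
  let e : L ≃ₐ[R] S := IsLocalization.algEquiv p.primeCompl L S
  letI : Algebra L S := e.toRingEquiv.toRingHom.toAlgebra
  letI : Module L N' := Module.compHom N' e.toRingEquiv.toRingHom
  haveI : IsScalarTower L S N' := IsScalarTower.of_algebraMap_smul fun _ _ => rfl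
  haveI : IsScalarTower R L N' := IsScalarTower.of_algebraMap_smul fun r m => by
    change e (algebraMap R L r) • m = r • m
    rw [e.commutes, algebraMap_smul]
  rw [DepthLib.depth_eq_of_surjective (R := L) (S := S) e.surjective]
  exact (DepthLib.depth_congr ((IsLocalizedModule.iso p.primeCompl f).extendScalarsOfIsLocalization
    p.primeCompl L)).symm

variable {X : Scheme.{u}}

/-- The stalk depth in terms of sections on an affine open. -/
theorem depth_stalk_eq (M : X.Modules) [M.IsQuasicoherent] {W : X.Opens} (hW : IsAffineOpen W) (x : X) (hx : x ∈ W) :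
    LocCoh.depth (X.presheaf.stalk x) (M.presheaf.stalk x) =
      LocCoh.depth (Localization.AtPrime (hW.primeIdealOf ⟨x, hx⟩).asIdeal)
        (LocalizedModule (hW.primeIdealOf ⟨x, hx⟩).asIdeal.primeCompl Γ(M, W)) := by
  letI := TopCat.Presheaf.algebra_section_stalk X.presheaf ⟨x, hx⟩
  haveI := hW.isLocalization_stalk ⟨x, hx⟩
  letI := QCohLib.germModule M x hx
  haveI := QCohLib.isLocalizedModule_germ (M := M) hW x hx
  haveI : IsScalarTower Γ(X, W) (X.presheaf.stalk x) (M.presheaf.stalk x) :=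
    IsScalarTower.of_algebraMap_smul fun _ _ => rfl
  exact depth_eq_localization _ (QCohLib.germLinearMap M x hx)

theorem affine_iff [IsLocallyNoetherian X] (M : X.Modules) (hM : Coh.IsCoh M) (U : X.Opens) {W : X.Opens}
    (hW : IsAffineOpen W) (n : ℕ) :
    (∀ i, i < n → Subsingleton (LocCohZ.HZ (X := X.carrier) (Coh.toAb M) i (inf_le_left : W ⊓ U ≤ W))) ↔
      ∀ x ∈ W, x ∉ U → (n : ℕ∞) ≤ LocCoh.depth (X.presheaf.stalk x) (M.presheaf.stalk x) := by
  haveI := hM.1
  haveI : IsNoetherianRing Γ(X, W) := IsLocallyNoetherian.component_noetherian ⟨W, hW⟩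
  haveI : Module.Finite Γ(X, W) Γ(M, W) := (QCohLib.isCoh_iff.mp hM).2 ⟨W, hW⟩
  let j : Spec Γ(X, W) ⟶ X := hW.fromSpec
  let U' : (Spec Γ(X, W)).Opens := j ⁻¹ᵁ (W ⊓ U)
  let Y : Set (PrimeSpectrum Γ(X, W)) := (U'.1 : Set (PrimeSpectrum Γ(X, W)))ᶜ
  obtain ⟨s, hs⟩ := (inferInstance : IsNoetherianRing Γ(X, W)).noetherian (PrimeSpectrum.vanishingIdeal Y)
  let fs : List Γ(X, W) := s.toList
  have hspan : Ideal.span ({a | a ∈ fs} : Set Γ(X, W)) = PrimeSpectrum.vanishingIdeal Y := by
    rw [← hs]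
    exact congrArg Ideal.span (Set.ext fun a => Finset.mem_toList)
  have hY : PrimeSpectrum.zeroLocus (PrimeSpectrum.vanishingIdeal Y : Set Γ(X, W)) = Y := by
    rw [PrimeSpectrum.zeroLocus_vanishingIdeal_eq_closure]
    have hYc : IsClosed Y := isClosed_compl_iff.2 U'.2
    exact hYc.closure_eq
  have hU' : U' = KoszulHZ.U fs := Opens.ext (by
    change (U'.1 : Set (PrimeSpectrum Γ(X, W))) =
      (PrimeSpectrum.zeroLocus ((Ideal.span ({a | a ∈ fs} : Set Γ(X, W)) : Ideal Γ(X, W)) : Set Γ(X, W)))ᶜ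
    rw [hspan, hY, compl_compl])
  let N : ModuleCat.{u} Γ(X, W) := QCohLib.ΓR (QCohLib.onSpec M hW)
  haveI : Module.Finite Γ(X, W) N := Module.Finite.equiv (QCohLib.onSpecΓ M hW).symm
  have htrans : ∀ i, Subsingleton (LocCohZ.HZ (X := X.carrier) (Coh.toAb M) i (inf_le_left : W ⊓ U ≤ W)) ↔
      Subsingleton (HZT fs N i) := fun i => by
    obtain ⟨e⟩ := nonempty_HZ_restrict_equiv (j := j.base) j.isOpenEmbedding (Coh.toAb M)
      (inf_le_left : W ⊓ U ≤ W) ((Scheme.Hom.image_top_eq_opensRange j).trans hW.opensRange_fromSpec) i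
    have ι : (Φ Γ(X, W)).obj N ≅ (restrictSh j.isOpenEmbedding).obj (Coh.toAb M) :=
      (toAbF _).mapIso (QCohLib.counitIso (QCohLib.onSpec M hW))
    rw [show HZT fs N i = LocCohZ.HZc ((Φ Γ(X, W)).obj N) i U' by rw [hU']]
    refine e.toEquiv.subsingleton_congr.trans ?_
    refine ⟨fun h => ?_, fun h => ?_⟩
    · refine subsingleton_of_forall_eq 0 fun z => ?_
      have hz : LocCohZ.map ι.hom i (le_top : U' ≤ ⊤) z = 0 := h.elim _ _
      have := congrArg (LocCohZ.map ι.inv i (le_top : U' ≤ ⊤)) hz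
      rw [map_zero] at this
      refine Eq.trans ?_ this
      change z = (z.comp (Ext.mk₀ ι.hom) (add_zero i)).comp (Ext.mk₀ ι.inv) (add_zero i)
      rw [Ext.comp_assoc_of_third_deg_zero, Ext.mk₀_comp_mk₀, ι.hom_inv_id, Ext.comp_mk₀_id]
    · refine subsingleton_of_forall_eq 0 fun z => ?_
      have hz : LocCohZ.map ι.inv i (le_top : U' ≤ ⊤) z = 0 := h.elim _ _
      have := congrArg (LocCohZ.map ι.hom i (le_top : U' ≤ ⊤)) hz
      rw [map_zero] at this
      refine Eq.trans ?_ this
      change z = (z.comp (Ext.mk₀ ι.inv) (add_zero i)).comp (Ext.mk₀ ι.hom) (add_zero i)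
      rw [Ext.comp_assoc_of_third_deg_zero, Ext.mk₀_comp_mk₀, ι.inv_hom_id, Ext.comp_mk₀_id]
  rw [forall₂_congr fun i (_ : i < n) => htrans i, ← natCast_le_idealDepth_iff, hspan,
    DepthLib.idealDepth_congr (QCohLib.onSpecΓ M hW), DepthLib.natCast_le_idealDepth_iff_forall_localization]
  have hmem : ∀ q : PrimeSpectrum Γ(X, W), PrimeSpectrum.vanishingIdeal Y ≤ q.asIdeal ↔ j q ∉ U := fun q => by
    have hjW : j q ∈ W := hW.range_fromSpec.le ⟨q, rfl⟩
    have h1 : PrimeSpectrum.vanishingIdeal Y ≤ q.asIdeal ↔ q ∈ Y := by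
      conv_rhs => rw [← hY]
      rfl
    exact h1.trans (not_congr ⟨fun h => h.2, fun h => ⟨hjW, h⟩⟩)
  constructor
  · intro h x hx hxU
    rw [depth_stalk_eq M hW x hx]
    refine h _ ((hmem _).2 ?_)
    rwa [hW.fromSpec_primeIdealOf]
  · intro h p _ hp
    let q : PrimeSpectrum Γ(X, W) := ⟨p, inferInstance⟩
    have hjW : j q ∈ W := hW.range_fromSpec.le ⟨q, rfl⟩
    have hq : hW.primeIdealOf ⟨j q, hjW⟩ = q := j.isOpenEmbedding.injective (hW.fromSpec_primeIdealOf _)
    have := h (j q) hjW ((hmem q).1 hp)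
    rw [depth_stalk_eq M hW _ hjW] at this
    revert this
    rw [hq]
    exact id

end Groth.Agent.KoszulHZ
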