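import Groth.Agent.KoszulHZ.Depth

/-!
Local cohomology sheaves vanish below `n` iff cohomology with supports does on a basis; depth criterion.
-/

set_option autoImplicit false
set_option linter.style.haveILetI false
set_option backward.isDefEq.respectTransparency false
set_option backward.isDefEq.respectTransparency.types false
universe u

open CategoryTheory CategoryTheory.Limits Opposite TopologicalSpace AlgebraicGeometry Abelian

namespace Groth.Agent.KoszulHZ

theorem isZero_below_of_basis {X : TopCat.{u}} (U : Opens X) (F : CohTop.Ab X) (P : Opens X → Prop)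
    (hP : ∀ (V : Opens X), ∀ p ∈ V, ∃ W, W ≤ V ∧ P W ∧ p ∈ W) :
    ∀ n : ℕ, (∀ W, P W → ∀ i, i < n → Subsingleton (LocCohZ.HZ F i (inf_le_left : W ⊓ U ≤ W))) →
      ∀ i, i < n → IsZero ((LocCohZ.HZsh U i).obj F)
  | 0, _, i, hi => absurd hi (Nat.not_lt_zero i)
  | n + 1, h, i, hi => by
    have ih := isZero_below_of_basis U F P hP n fun W hW j hj => h W hW j (by omega)
    rcases Nat.lt_or_eq_of_le (Nat.lt_succ_iff.1 hi) with hlt | rfl
    · exact ih i hlt
    cases i with
    | zero =>
      refine (KerDerived.isZero_HZsh_zero_iff U F).2 fun V => subsingleton_of_forall_eq 0 fun x => ?_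
      have h0 : KerDerived.z0 inf_le_left (0 : LocCohZ.HZ F 0 (inf_le_left : V ⊓ U ≤ V)) = 0 :=
        congrArg Subtype.val (map_zero (LocCohZ.sect0Equiv F (inf_le_left : V ⊓ U ≤ V)))
      refine KerDerived.z0_injective _ (Eq.trans ?_ h0.symm)
      choose W hW hPW hpW using fun p : V => hP V p.1 p.2
      refine TopCat.Sheaf.eq_of_locally_eq' F W V (fun p => homOfLE (hW p))
        (fun y hy => Opens.mem_iSup.2 ⟨⟨y, hy⟩, hpW ⟨y, hy⟩⟩) _ 0 fun p => ?_
      rw [← KerDerived.z0_resZ inf_le_left (inf_le_left : W p ⊓ U ≤ W p) (inf_le_inf_right U (hW p)) (hW p) x,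
        (h (W p) (hPW p) 0 (Nat.succ_pos _)).elim (LocCohZ.resZ F 0 _ _ _ _ x) 0, map_zero]
      exact congrArg Subtype.val (map_zero (LocCohZ.sect0Equiv F (inf_le_left : W p ⊓ U ≤ W p)))
    | succ m =>
      have hflq : TopCat.Sheaf.IsFlasque ((LocCohZ.sectSuppF U).obj F) := KerDerived.isFlasque_of_isZero
        (((LocCohZ.sectSuppF U).rightDerivedZeroIsoSelf.app F).isZero_iff.1 (ih 0 (Nat.succ_pos m)))
      refine (KerDerived.main U m F hflq).2
        ((KerDerived.main U m F hflq).1.1 fun j hj => ih (j + 1) (by omega)) fun V x p hp => ?_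
      obtain ⟨W, hW, hPW, hpW⟩ := hP V p hp
      exact ⟨W, hW, hpW, (h W hPW (m + 1) (Nat.lt_succ_self _)).elim _ _⟩

variable {X : Scheme.{u}}

theorem exists_affine_le (V : X.Opens) (p : X) (hp : p ∈ V) : ∃ W : X.Opens, W ≤ V ∧ IsAffineOpen W ∧ p ∈ W := by
  obtain ⟨W, hW, hpW, hWV⟩ := Opens.isBasis_iff_nbhd.mp X.isBasis_affineOpens hp
  exact ⟨W, hWV, hW, hpW⟩

theorem isZero_below_iff_depth [IsLocallyNoetherian X] (M : X.Modules) (hM : Coh.IsCoh M) (U : X.Opens) (n : ℕ) :
    (∀ i, i < n → IsZero ((LocCohZ.HZsh (X := X.carrier) U i).obj (Coh.toAb M))) ↔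
      ∀ x : X, x ∉ U → (n : ℕ∞) ≤ LocCoh.depth (X.presheaf.stalk x) (M.presheaf.stalk x) := by
  constructor
  · intro h x hx
    obtain ⟨W, -, hW, hxW⟩ := exists_affine_le ⊤ x trivial
    exact (affine_iff M hM U hW n).1
      (fun i hi => (KerDerived.isZero_iff_subsingleton U _ n).1 h W i hi) x hxW hx
  · intro h
    exact isZero_below_of_basis (X := X.carrier) U (Coh.toAb M) (fun W => IsAffineOpen (X := X) W)
      (exists_affine_le (X := X)) n fun W hW i hi => (affine_iff M hM U hW n).2 (fun x _ hx => h x hx) i hi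

theorem two_le_depth_iff_bijective [IsLocallyNoetherian X] (M : X.Modules) (hM : Coh.IsCoh M) (U : X.Opens) :
    (∀ x : X, x ∉ U → (2 : ℕ∞) ≤ LocCoh.depth (X.presheaf.stalk x) (M.presheaf.stalk x)) ↔
      ∀ V : X.Opens, Function.Bijective (CohTop.res (X := X.carrier) (Coh.toAb M) 0 (inf_le_left : V ⊓ U ≤ V)) := by
  haveI := hM.1
  refine Iff.trans (Iff.trans ?_ (isZero_below_iff_depth M hM U 2).symm) ⟨fun h V => ?_, fun h => ?_⟩
  · exact Iff.rfl
  · exact (((KerDerived.isZero_HZsh_iff_res (X := X.carrier) U (Coh.toAb M) 1).1 fun i hi => h i (by omega)) V).1 0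
      (by omega)
  · refine isZero_below_of_basis (X := X.carrier) U (Coh.toAb M) (fun W => IsAffineOpen (X := X) W)
      (exists_affine_le (X := X)) 2 fun W hW i hi => ?_
    have := CohVanish.subsingleton_EU_of_isAffineOpen M hW 0
    rcases Nat.lt_or_eq_of_le (Nat.lt_succ_iff.1 hi) with h0 | rfl
    · obtain rfl : i = 0 := by omega
      exact KerDerived.subsingleton_HZ_zero _ (h W).1
    · exact KerDerived.subsingleton_HZ_succ _ 0 (h W).2
        fun a b _ => this.elim a b

end Groth.Agent.KoszulHZ
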