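import Groth.Agent.S13583
import Groth.Agent.KerDerived.Local
import Groth.Agent.KerDerived.ExtNat

/-!
`ℋ^n_Y(F)` is the sheaf associated to `V ↦ H^n_{Y ∩ V}(V, F)`; a local vanishing criterion in one degree.
-/

set_option autoImplicit false
set_option linter.style.haveILetI false
set_option backward.isDefEq.respectTransparency false
set_option backward.isDefEq.respectTransparency.types false
universe u

open CategoryTheory CategoryTheory.Limits Opposite TopologicalSpace Abelian

namespace Groth.Agent.KoszulHZ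

open KerDerived

variable {X : TopCat.{u}} (U : Opens X)

/-- The presheaves of cohomology with supports. -/
noncomputable abbrev preT (n : ℕ) : CohTop.Ab X ⥤ ((Opens X)ᵒᵖ ⥤ AddCommGrpCat.{u}) :=
  Groth.Agent.S13583.preF (le_top : U ≤ ⊤) n

theorem exists_supp0 (F : CohTop.Ab X) (V : Opens X) (t : ((LocCohZ.sectSuppF U).obj F).obj.obj (op V)) :
    ∃ x : LocCohZ.HZ F 0 (inf_le_inf_right V (le_top : U ≤ ⊤)),
      z0 (inf_le_inf_right V (le_top : U ≤ ⊤)) x = F.obj.map (homOfLE (inf_le_right : ⊤ ⊓ V ≤ V)).op (suppSec U V t) := by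
  refine exists_z0 _ _ ?_
  have hm := (SSExist.mem_sectSupp_iff U F V _).1 ⟨t, rfl⟩
  have h' := (congrArg (F.obj.map (homOfLE (le_inf inf_le_right inf_le_left : U ⊓ V ≤ V ⊓ U)).op) hm).trans
    (map_zero (F.obj.map (homOfLE (le_inf inf_le_right inf_le_left : U ⊓ V ≤ V ⊓ U)).op).hom)
  refine Eq.trans ?_ h'
  rw [← ConcreteCategory.comp_apply, ← F.obj.map_comp]
  refine Eq.trans ?_ (ConcreteCategory.comp_apply _ _ _)
  erw [← F.obj.map_comp]
  rfl

/-- Degree zero. -/
noncomputable def supp0 (F : CohTop.Ab X) : ((LocCohZ.sectSuppF U).obj F).obj ⟶ (preT U 0).obj F := by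
  classical
  have hmem := exists_supp0 U F
  refine
    { app := fun V' => AddCommGrpCat.ofHom (AddMonoidHom.mk' (fun t => (hmem V'.unop t).choose) (fun t t' => ?_))
      naturality := fun V' V'' g => ?_ }
  · apply z0_injective
    rw [(hmem V'.unop (t + t')).choose_spec]
    refine Eq.trans ?_ ((congrArg₂ (· + ·) (hmem V'.unop t).choose_spec (hmem V'.unop t').choose_spec).symm.trans ?_)
    · rw [← map_add]
      congr 1
      exact map_add _ t t'
    · exact (congrArg Subtype.val (map_add (LocCohZ.sect0Equiv F (inf_le_inf_right V'.unop (le_top : U ≤ ⊤))) _ _)).symm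
  · refine AddCommGrpCat.ext fun t => ?_
    apply z0_injective
    refine (hmem V''.unop _).choose_spec.trans ?_
    refine Eq.trans ?_ (z0_resZ _ _ _ _ _).symm
    refine Eq.trans ?_ (congrArg (F.obj.map _) (hmem V'.unop t).choose_spec).symm
    refine (congrArg _ (suppSec_res U (leOfHom g.unop) t)).trans ?_
    rw [← ConcreteCategory.comp_apply, ← F.obj.map_comp, ← ConcreteCategory.comp_apply, ← F.obj.map_comp]
    rfl

theorem supp0_spec (F : CohTop.Ab X) (V : Opens X) (t : ((LocCohZ.sectSuppF U).obj F).obj.obj (op V)) :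
    z0 (inf_le_inf_right V (le_top : U ≤ ⊤)) ((supp0 U F).app (op V) t) =
      F.obj.map (homOfLE (inf_le_right : ⊤ ⊓ V ≤ V)).op (suppSec U V t) :=
  (exists_supp0 U F V t).choose_spec

theorem supp0_bijective (F : CohTop.Ab X) (V : Opens X) : Function.Bijective ((supp0 U F).app (op V)) := by
  haveI : IsIso (F.obj.map (homOfLE (inf_le_right : ⊤ ⊓ V ≤ V)).op) := by
    haveI : IsIso (homOfLE (inf_le_right : ⊤ ⊓ V ≤ V)) :=
      ⟨homOfLE (le_inf le_top le_rfl), Subsingleton.elim _ _, Subsingleton.elim _ _⟩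
    infer_instance
  constructor
  · intro t t' ht
    refine suppSec_injective U V ?_
    have := (supp0_spec U F V t).symm.trans ((congrArg (z0 _) ht).trans (supp0_spec U F V t'))
    exact (ConcreteCategory.bijective_of_isIso (F.obj.map (homOfLE (inf_le_right : ⊤ ⊓ V ≤ V)).op)).1 this
  · intro x
    obtain ⟨s, hs⟩ := (ConcreteCategory.bijective_of_isIso (F.obj.map (homOfLE (inf_le_right : ⊤ ⊓ V ≤ V)).op)).2
      (z0 (inf_le_inf_right V (le_top : U ≤ ⊤)) x)
    obtain ⟨t, ht⟩ : ∃ t, suppSec U V t = s := by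
      refine (SSExist.mem_sectSupp_iff U F V _).2 ?_
      have h' := (congrArg (F.obj.map (homOfLE (le_inf inf_le_right inf_le_left : V ⊓ U ≤ U ⊓ V)).op)
        (LocCohZ.sect0Equiv F (inf_le_inf_right V (le_top : U ≤ ⊤)) x).2).trans (map_zero _)
      refine Eq.trans ?_ h'
      change _ = F.obj.map _ (F.obj.map _ (z0 (inf_le_inf_right V (le_top : U ≤ ⊤)) x))
      rw [← hs, ← ConcreteCategory.comp_apply, ← ConcreteCategory.comp_apply, ← F.obj.map_comp, ← F.obj.map_comp]
      rfl
    refine ⟨t, z0_injective _ ?_⟩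
    rw [supp0_spec, ht, hs]

/-- Sections with support are the degree zero presheaf. -/
noncomputable def supp0Iso : LocCohZ.sectSuppF U ⋙ sheafToPresheaf _ _ ≅ preT U 0 :=
  NatIso.ofComponents (fun F =>
    haveI : ∀ V', IsIso ((supp0 U F).app V') := fun V' =>
      (ConcreteCategory.isIso_iff_bijective _).2 (supp0_bijective U F V'.unop)
    haveI : IsIso (supp0 U F) := NatIso.isIso_of_isIso_app _
    asIso (supp0 U F)) fun {F G} φ => NatTrans.ext (funext fun V' => AddCommGrpCat.ext fun t => by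
      apply z0_injective
      refine (supp0_spec U G V'.unop _).trans ?_
      refine Eq.trans ?_ (z0_map φ _ ((supp0 U F).app V' t)).symm
      rw [supp0_spec]
      refine (congrArg (G.obj.map _) (suppSec_map U φ V'.unop t)).trans ?_
      exact (NatTrans.naturality_apply φ.hom _ _).symm)

/-- `ℋ^n_Y(F)` is the sheafification of `V ↦ H^n_{Y ∩ V}(V, F)`. -/
theorem nonempty_HZsh_iso_sheafify (n : ℕ) :
    Nonempty (LocCohZ.HZsh U n ≅ preT U n ⋙ presheafToSheaf (Opens.grothendieckTopology X) AddCommGrpCat.{u}) := by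
  let J := Opens.grothendieckTopology X
  let Q : ℕ → CohTop.Ab X ⥤ CohTop.Ab X := fun n => preT U n ⋙ presheafToSheaf J AddCommGrpCat.{u}
  haveI : IsIso (sheafificationAdjunction J AddCommGrpCat.{u}).counit := inferInstance
  let e₀ : LocCohZ.sectSuppF U ≅ Q 0 :=
    (Functor.rightUnitor _).symm ≪≫ Functor.isoWhiskerLeft (LocCohZ.sectSuppF U)
      (asIso (sheafificationAdjunction J AddCommGrpCat.{u}).counit).symm ≪≫
      (Functor.associator _ _ _).symm ≪≫ Functor.isoWhiskerRight (supp0Iso U) _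
  exact Groth.Agent.S13583.nonempty_rightDerived_iso_of_effaceable (LocCohZ.sectSuppF U) Q e₀
    (fun n F => (presheafToSheaf J AddCommGrpCat.{u}).map (Groth.Agent.S13583.preδ (le_top : U ≤ ⊤) n F))
    (fun n F => by haveI := Groth.Agent.S13583.epi_preδ (le_top : U ≤ ⊤) n F; infer_instance)
    (fun n F Z k => by
      haveI := Groth.Agent.S13583.epi_preδ (le_top : U ≤ ⊤) n F
      haveI : Epi ((Groth.Agent.S13583.preSC (le_top : U ≤ ⊤) n F).map (presheafToSheaf J AddCommGrpCat.{u})).g :=
        inferInstanceAs (Epi ((presheafToSheaf J AddCommGrpCat.{u}).map (Groth.Agent.S13583.preδ (le_top : U ≤ ⊤) n F)))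
      exact KerDerived.desc_iff ((Groth.Agent.S13583.exact_preSC (le_top : U ≤ ⊤) n F).map (presheafToSheaf J AddCommGrpCat.{u})) k)
    (fun n F G f => by
      show (presheafToSheaf J AddCommGrpCat.{u}).map _ ≫ (presheafToSheaf J AddCommGrpCat.{u}).map _ = _
      rw [← Functor.map_comp]
      refine Eq.trans ?_ (Functor.map_comp _ _ _)
      congr 1
      exact NatTrans.ext (funext fun V' => KerDerived.extDl_natural _ n f)) n

/-- Vanishing of `ℋ^n_Y(F)` from vanishing of `H^n` with supports on a basis. -/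
theorem isZero_HZsh_of_basis (F : CohTop.Ab X) (n : ℕ) (P : Opens X → Prop)
    (hP : ∀ (V : Opens X), ∀ p ∈ V, ∃ W, W ≤ V ∧ P W ∧ p ∈ W)
    (h : ∀ W, P W → Subsingleton (LocCohZ.HZ F n (inf_le_left : W ⊓ U ≤ W))) :
    IsZero ((LocCohZ.HZsh U n).obj F) := by
  obtain ⟨e⟩ := nonempty_HZsh_iso_sheafify U n
  refine IsZero.of_iso ?_ (e.app F)
  let P₀ := (preT U n).obj F
  let S := (presheafToSheaf (Opens.grothendieckTopology X) AddCommGrpCat.{u}).obj P₀
  let η := (sheafificationAdjunction (Opens.grothendieckTopology X) AddCommGrpCat.{u}).unit.app P₀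
  have hη : η = 0 := by
    refine NatTrans.ext (funext fun V => AddCommGrpCat.ext fun x => ?_)
    change η.app V x = 0
    choose W hW hPW hpW using fun p : V.unop => hP V.unop p.1 p.2
    refine TopCat.Sheaf.eq_of_locally_eq' S W V.unop (fun p => homOfLE (hW p))
      (fun y hy => Opens.mem_iSup.2 ⟨⟨y, hy⟩, hpW ⟨y, hy⟩⟩) _ 0 fun p => ?_
    rw [map_zero]
    refine (NatTrans.naturality_apply η (homOfLE (hW p)).op x).symm.trans ?_
    have hsub : Subsingleton (P₀.obj (op (W p))) := by
      change Subsingleton (LocCohZ.HZ F n (inf_le_inf_right (W p) (le_top : U ≤ ⊤)))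
      have := h (W p) (hPW p)
      have key : ∀ (a b a' b' : Opens X) (ha : a ≤ b) (ha' : a' ≤ b'), a = a' → b = b' →
          Subsingleton (LocCohZ.HZ F n ha) → Subsingleton (LocCohZ.HZ F n ha') := by
        intro a b a' b' ha ha' e e' hs
        subst e e'
        exact hs
      exact key _ _ _ _ _ _ (inf_comm _ _) (top_inf_eq _).symm this
    exact (congrArg (η.app (op (W p))) (hsub.elim (P₀.map (homOfLE (hW p)).op x) 0)).trans (map_zero _)
  rw [IsZero.iff_id_eq_zero]
  apply ((sheafificationAdjunction (Opens.grothendieckTopology X) AddCommGrpCat.{u}).homEquiv P₀ _).injective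
  rw [Adjunction.homEquiv_unit, Adjunction.homEquiv_unit]
  change η ≫ _ = η ≫ _
  rw [hη, zero_comp, zero_comp]

end Groth.Agent.KoszulHZ
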