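import Groth.Agent.KoszulHZ.Depth
import Groth.Agent.KoszulHZ.Sheafify
import Groth.Agent.KoszulHZ.Global
import Groth.Agent.LocCohLib.CdLE

/-!
Cohomology with supports on an affine open as local cohomology of the module of sections; vanishing above the dimension.
-/

set_option autoImplicit false
set_option linter.style.haveILetI false
set_option backward.isDefEq.respectTransparency false
universe u

open CategoryTheory CategoryTheory.Limits Opposite TopologicalSpace AlgebraicGeometry Abelian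

namespace Groth.Agent.KoszulHZ

open Groth.Agent.CohVanish Groth.Agent.KoszulCone
open scoped Groth.Agent.CohVanish

variable {X : Scheme.{u}}

theorem exists_affine_model (M : X.Modules) [M.IsQuasicoherent] (U : X.Opens) {W : X.Opens} (hW : IsAffineOpen W)
    [IsNoetherianRing Γ(X, W)] :
    ∃ (I : Ideal Γ(X, W)) (N : ModuleCat.{u} Γ(X, W)),
      (∀ q : PrimeSpectrum Γ(X, W), I ≤ q.asIdeal ↔ hW.fromSpec q ∉ U) ∧
      ∀ i, Subsingleton (LocCohZ.HZ (X := X.carrier) (Coh.toAb M) i (inf_le_left : W ⊓ U ≤ W)) ↔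
        Subsingleton ((localCohomology I i).obj N) := by
  let j : Spec Γ(X, W) ⟶ X := hW.fromSpec
  let U' : (Spec Γ(X, W)).Opens := j ⁻¹ᵁ (W ⊓ U)
  let Y : Set (PrimeSpectrum Γ(X, W)) := (U'.1 : Set (PrimeSpectrum Γ(X, W)))ᶜ
  obtain ⟨s, hs⟩ := (inferInstance : IsNoetherianRing Γ(X, W)).noetherian (PrimeSpectrum.vanishingIdeal Y)
  let fs : List Γ(X, W) := s.toList
  have hspan : Ideal.span ({a | a ∈ fs} : Set Γ(X, W)) = PrimeSpectrum.vanishingIdeal Y := by
    rw [← hs]
    exact congrArg Ideal.span (Set.ext fun a => Finset.mem_toList)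
  have hY : PrimeSpectrum.zeroLocus (PrimeSpectrum.vanishingIdeal Y : Set Γ(X, W)) = Y := by
    rw [PrimeSpectrum.zeroLocus_vanishingIdeal_eq_closure]
    have hYc : IsClosed Y := isClosed_compl_iff.2 U'.2
    exact hYc.closure_eq
  have hU' : U' = KoszulHZ.U fs := Opens.ext (by
    change (U'.1 : Set (PrimeSpectrum Γ(X, W))) =
      (PrimeSpectrum.zeroLocus ((Ideal.span ({a | a ∈ fs} : Set Γ(X, W)) : Ideal Γ(X, W)) : Set Γ(X, W)))ᶜ
    rw [hspan, hY, compl_compl])
  let N : ModuleCat.{u} Γ(X, W) := QCohLib.ΓR (QCohLib.onSpec M hW)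
  have htrans : ∀ i, Subsingleton (LocCohZ.HZ (X := X.carrier) (Coh.toAb M) i (inf_le_left : W ⊓ U ≤ W)) ↔
      Subsingleton (HZT fs N i) := fun i => by
    obtain ⟨e⟩ := nonempty_HZ_restrict_equiv (j := j.base) j.isOpenEmbedding (Coh.toAb M)
      (inf_le_left : W ⊓ U ≤ W) ((Scheme.Hom.image_top_eq_opensRange j).trans hW.opensRange_fromSpec) i
    have ι : (Φ Γ(X, W)).obj N ≅ (restrictSh j.isOpenEmbedding).obj (Coh.toAb M) :=
      (toAbF _).mapIso (QCohLib.counitIso (QCohLib.onSpec M hW))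
    rw [show HZT fs N i = LocCohZ.HZc ((Φ Γ(X, W)).obj N) i U' by rw [hU']]
    refine e.toEquiv.subsingleton_congr.trans ?_
    refine ⟨fun h => ?_, fun h => ?_⟩
    · refine subsingleton_of_forall_eq 0 fun z => ?_
      have hz : LocCohZ.map ι.hom i (le_top : U' ≤ ⊤) z = 0 := h.elim _ _
      have := congrArg (LocCohZ.map ι.inv i (le_top : U' ≤ ⊤)) hz
      rw [map_zero] at this
      refine Eq.trans ?_ this
      change z = (z.comp (Ext.mk₀ ι.hom) (add_zero i)).comp (Ext.mk₀ ι.inv) (add_zero i)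
      rw [Ext.comp_assoc_of_third_deg_zero, Ext.mk₀_comp_mk₀, ι.hom_inv_id, Ext.comp_mk₀_id]
    · refine subsingleton_of_forall_eq 0 fun z => ?_
      have hz : LocCohZ.map ι.inv i (le_top : U' ≤ ⊤) z = 0 := h.elim _ _
      have := congrArg (LocCohZ.map ι.hom i (le_top : U' ≤ ⊤)) hz
      rw [map_zero] at this
      refine Eq.trans ?_ this
      change z = (z.comp (Ext.mk₀ ι.inv) (add_zero i)).comp (Ext.mk₀ ι.hom) (add_zero i)
      rw [Ext.comp_assoc_of_third_deg_zero, Ext.mk₀_comp_mk₀, ι.inv_hom_id, Ext.comp_mk₀_id]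
  refine ⟨Ideal.span ({a | a ∈ fs} : Set Γ(X, W)), N, fun q => ?_, fun i => (htrans i).trans ?_⟩
  · rw [hspan]
    have hjW : j q ∈ W := hW.range_fromSpec.le ⟨q, rfl⟩
    have h1 : PrimeSpectrum.vanishingIdeal Y ≤ q.asIdeal ↔ q ∈ Y := by
      conv_rhs => rw [← hY]
      rfl
    exact h1.trans (not_congr ⟨fun h => h.2, fun h => ⟨hjW, h⟩⟩)
  · obtain ⟨e₁⟩ := nonempty_localCohomology_equiv fs i N
    obtain ⟨e₂⟩ := nonempty_equiv fs i N
    exact (e₁.toEquiv.subsingleton_congr.trans e₂.toEquiv.subsingleton_congr).symm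

/-- `ℋ^i_Y = 0` for `i` above the dimensions of the local rings along `Y`. -/
theorem isZero_of_ringKrullDim_lt [IsLocallyNoetherian X] (M : X.Modules) [M.IsQuasicoherent] (U : X.Opens) (i : ℕ)
    (hi : ∀ x : X, x ∉ U → ringKrullDim (X.presheaf.stalk x) < (i : WithBot ℕ∞)) :
    IsZero ((LocCohZ.HZsh (X := X.carrier) U i).obj (Coh.toAb M)) := by
  refine isZero_HZsh_of_basis (X := X.carrier) U (Coh.toAb M) i (fun W => IsAffineOpen (X := X) W)
    (exists_affine_le (X := X)) fun W hW => ?_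
  haveI : IsNoetherianRing Γ(X, W) := IsLocallyNoetherian.component_noetherian ⟨W, hW⟩
  obtain ⟨I, N, hI, hiff⟩ := exists_affine_model M U hW
  refine (hiff i).2 (LocCohLib.subsingleton_of_localizations I i N fun p _ => ?_)
  by_cases hp : I ≤ p
  · refine LocCohLib.subsingleton_of_dimLt _ i _ (LocCohLib.DimLt.of_supportDim
      ((Module.supportDim_le_ringKrullDim _ _).trans_lt ?_))
    let q : PrimeSpectrum Γ(X, W) := ⟨p, inferInstance⟩
    have hjW : hW.fromSpec q ∈ W := hW.range_fromSpec.le ⟨q, rfl⟩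
    letI := TopCat.Presheaf.algebra_section_stalk X.presheaf ⟨hW.fromSpec q, hjW⟩
    haveI := hW.isLocalization_stalk ⟨hW.fromSpec q, hjW⟩
    have hq : hW.primeIdealOf ⟨hW.fromSpec q, hjW⟩ = q :=
      hW.fromSpec.isOpenEmbedding.injective (hW.fromSpec_primeIdealOf _)
    have h2 := hi _ ((hI q).1 hp)
    rw [ringKrullDim_eq_of_ringEquiv (IsLocalization.algEquiv (hW.primeIdealOf ⟨hW.fromSpec q, hjW⟩).asIdeal.primeCompl
      (X.presheaf.stalk (hW.fromSpec q)) (Localization.AtPrime (hW.primeIdealOf ⟨hW.fromSpec q, hjW⟩).asIdeal)).toRingEquiv] at h2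
    revert h2
    rw [hq]
    exact id
  · have htop : I.map (algebraMap Γ(X, W) (Localization.AtPrime p)) = ⊤ := by
      obtain ⟨a, ha, hap⟩ := SetLike.not_le_iff_exists.1 hp
      exact Ideal.eq_top_of_isUnit_mem _ (Ideal.mem_map_of_mem _ ha)
        (IsLocalization.map_units (Localization.AtPrime p) (⟨a, hap⟩ : p.primeCompl))
    rw [htop]
    exact LocCohLib.subsingleton_top _ i

end Groth.Agent.KoszulHZ
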