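import Groth.Agent.KerDerived.Local
import Groth.Agent.CohVanish.Compare
import Groth.Agent.SSExist.LocCoh

/-!
The first possibly non-zero local cohomology sheaf has cohomology with supports as sections.
-/

set_option autoImplicit false
set_option linter.style.haveILetI false
set_option backward.isDefEq.respectTransparency false
set_option backward.isDefEq.respectTransparency.types false
universe u

open CategoryTheory CategoryTheory.Limits Opposite TopologicalSpace Abelian

namespace Groth.Agent.KoszulHZ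

open KerDerived

variable {X : TopCat.{u}} (U : Opens X)

/-- Sections with support are `H⁰` with supports. -/
theorem nonempty_suppSec_equiv (F : CohTop.Ab X) (V : Opens X) :
    Nonempty (((LocCohZ.sectSuppF U).obj F).obj.obj (op V) ≃+ LocCohZ.HZ F 0 (inf_le_left : V ⊓ U ≤ V)) := by
  let g : ((LocCohZ.sectSuppF U).obj F).obj.obj (op V) →+ LocCohZ.HZ F 0 (inf_le_left : V ⊓ U ≤ V) :=
    (LocCohZ.sect0Equiv F (inf_le_left : V ⊓ U ≤ V)).symm.toAddMonoidHom.comp
      ((((suppι U).app F).hom.app (op V)).hom.codRestrict _ fun t =>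
        (SSExist.mem_sectSupp_iff U F V _).1 ⟨t, rfl⟩)
  have hg : ∀ t, z0 inf_le_left (g t) = suppSec U V t := fun t =>
    congrArg Subtype.val ((LocCohZ.sect0Equiv F (inf_le_left : V ⊓ U ≤ V)).apply_symm_apply _)
  refine ⟨AddEquiv.ofBijective g ⟨fun a b h => suppSec_injective U V ?_, fun x => ?_⟩⟩
  · rw [← hg, ← hg, h]
  · obtain ⟨t, ht⟩ := exists_suppSec_eq_z0 U V x
    exact ⟨t, z0_injective _ ((hg t).trans ht)⟩

theorem nonempty_sections_one (F : CohTop.Ab X) (hF : TopCat.Sheaf.IsFlasque ((LocCohZ.sectSuppF U).obj F))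
    (V : Opens X) :
    Nonempty (((LocCohZ.HZsh U 1).obj F).obj.obj (op V) ≃+ LocCohZ.HZ F 1 (inf_le_left : V ⊓ U ≤ V)) := by
  let G := LocCohZ.sectSuppF U
  let p : G.obj (emb F).X₃ ⟶ (LocCohZ.HZsh U 1).obj F := G.rightDerivedZeroIsoSelf.inv.app (emb F).X₃ ≫ dl G 0 F
  haveI : Epi p := epi_comp _ _
  have hgp : G.map (emb F).g ≫ p = 0 := (dl_desc_iff₀ G F p).1 ⟨𝟙 _, Category.comp_id _⟩
  let Sp : ShortComplex (CohTop.Ab X) := ShortComplex.mk (G.map (emb F).g) p hgp
  have hSp : Sp.Exact := ShortComplex.exact_of_g_is_cokernel _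
    (CokernelCofork.IsColimit.ofπ' p hgp (fun {Z} k hk =>
      ⟨((dl_desc_iff₀ G F k).2 hk).choose, ((dl_desc_iff₀ G F k).2 hk).choose_spec⟩))
  let α : G.obj (emb F).X₂ ⟶ kernel p := kernel.lift p (G.map (emb F).g) hgp
  haveI : Epi α := hSp.epi_kernelLift
  haveI := (emb_shortExact F).mono_f
  have hfα : G.map (emb F).f ≫ α = 0 := (cancel_mono (kernel.ι p)).1 (by
    rw [Category.assoc, kernel.lift_ι, ← Functor.map_comp, (emb F).zero, Functor.map_zero, zero_comp])
  let S1 : ShortComplex (CohTop.Ab X) := ShortComplex.mk (G.map (emb F).f) α hfα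
  have hS1 : S1.ShortExact :=
    { exact := by
        have h0 := (emb_shortExact F).exact.map_of_mono_of_preservesKernel G (emb_shortExact F).mono_f inferInstance
        exact (ShortComplex.exact_iff_of_epi_of_isIso_of_mono (S₁ := S1) (S₂ := (emb F).map G)
          { τ₁ := 𝟙 _, τ₂ := 𝟙 _, τ₃ := kernel.ι p, comm₂₃ := by simp [S1, α] }).2 h0
      mono_f := G.map_mono (emb F).f
      epi_g := inferInstanceAs (Epi α) }
  haveI : TopCat.Sheaf.IsFlasque S1.X₁ := hF
  haveI hI : TopCat.Sheaf.IsFlasque S1.X₂ := by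
    haveI := CohVanish.isFlasque_of_injective (emb F).X₂
    exact SSExist.isFlasque_sectSupp U (emb F).X₂
  let S2 : ShortComplex (CohTop.Ab X) := ShortComplex.mk (kernel.ι p) p (kernel.condition p)
  have hS2 : S2.ShortExact :=
    { exact := ShortComplex.exact_of_f_is_kernel _ (kernelIsKernel p)
      mono_f := inferInstanceAs (Mono (kernel.ι p))
      epi_g := inferInstanceAs (Epi p) }
  haveI : TopCat.Sheaf.IsFlasque S2.X₁ := TopCat.Sheaf.IsFlasque.of_shortExact_of_isFlasque₁₂ hS1
  have hpsurj : Function.Surjective (p.hom.app (op V)) :=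
    (AddCommGrpCat.epi_iff_surjective _).1 (TopCat.Sheaf.IsFlasque.epi_of_shortExact (U := V) hS2)
  have hαsurj : Function.Surjective (α.hom.app (op V)) :=
    (AddCommGrpCat.epi_iff_surjective _).1 (TopCat.Sheaf.IsFlasque.epi_of_shortExact (U := V) hS1)
  have hker : ∀ q, p.hom.app (op V) q = 0 ↔ ∃ t, (G.map (emb F).g).hom.app (op V) t = q := by
    intro q
    have e : ∀ t, (G.map (emb F).g).hom.app (op V) t = (kernel.ι p).hom.app (op V) (α.hom.app (op V) t) := fun t => by
      rw [← ConcreteCategory.comp_apply]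
      exact ConcreteCategory.congr_hom (congrArg (fun k => k.hom.app (op V)) (kernel.lift_ι p (G.map (emb F).g) hgp).symm) t
    constructor
    · intro hq
      obtain ⟨w, rfl⟩ := (ShortComplex.ab_exact_iff _).1
        (hS2.exact.map_of_mono_of_preservesKernel (SSExist.secAb (Opens.grothendieckTopology X) V) hS2.mono_f inferInstance) q hq
      obtain ⟨t, rfl⟩ := hαsurj w
      exact ⟨t, e t⟩
    · rintro ⟨t, rfl⟩
      rw [← ConcreteCategory.comp_apply]
      exact ConcreteCategory.congr_hom (congrArg (fun k => k.hom.app (op V)) hgp) t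
  obtain ⟨eQ⟩ := nonempty_suppSec_equiv U (emb F).X₃ V
  obtain ⟨e⟩ := CohVanish.nonempty_addEquiv_of_ker (p.hom.app (op V)).hom
    (((emb_shortExact F).extClass.postcomp (LocCohZ.zq (inf_le_left : V ⊓ U ≤ V)) (rfl : 0 + 1 = 1)).comp
      ((LocCohZ.sect0Equiv (emb F).X₃ (inf_le_left : V ⊓ U ≤ V)).symm.toAddMonoidHom.comp
        ((((suppι U).app (emb F).X₃).hom.app (op V)).hom.codRestrict _ fun t =>
          (SSExist.mem_sectSupp_iff U (emb F).X₃ V _).1 ⟨t, rfl⟩))) hpsurj
    (fun x => by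
      obtain ⟨y, rfl⟩ := Ext.covariant_sequence_exact₁ _ (emb_shortExact F) x (Ext.eq_zero_of_injective _) (rfl : 0 + 1 = 1)
      obtain ⟨t, ht⟩ := exists_suppSec_eq_z0 U V y
      refine ⟨t, congrArg (fun z => Ext.comp z _ _) (z0_injective _ ?_)⟩
      exact (congrArg Subtype.val ((LocCohZ.sect0Equiv (emb F).X₃ (inf_le_left : V ⊓ U ≤ V)).apply_symm_apply _)).trans ht)
    (fun q => by
      rw [hker]
      let y := (LocCohZ.sect0Equiv (emb F).X₃ (inf_le_left : V ⊓ U ≤ V)).symm
        ⟨suppSec U V q, (SSExist.mem_sectSupp_iff U (emb F).X₃ V _).1 ⟨q, rfl⟩⟩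
      have hy : z0 _ y = suppSec U V q :=
        congrArg Subtype.val ((LocCohZ.sect0Equiv (emb F).X₃ (inf_le_left : V ⊓ U ≤ V)).apply_symm_apply _)
      change _ ↔ y.comp (emb_shortExact F).extClass (rfl : 0 + 1 = 1) = 0
      constructor
      · rintro ⟨t, rfl⟩
        obtain ⟨z, hz⟩ := exists_z0_eq_suppSec U V t
        have : y = LocCohZ.map (emb F).g 0 _ z := z0_injective _ (by rw [z0_map, hz, hy, suppSec_map])
        rw [this]
        change (z.comp (Ext.mk₀ (emb F).g) (add_zero 0)).comp (emb_shortExact F).extClass (rfl : 0 + 1 = 1) = 0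
        rw [Ext.comp_assoc_of_second_deg_zero, ShortComplex.ShortExact.comp_extClass, Ext.comp_zero]
      · intro h
        obtain ⟨z, hz⟩ := Ext.covariant_sequence_exact₃ _ (emb_shortExact F) y (rfl : 0 + 1 = 1) h
        obtain ⟨t, ht⟩ := exists_suppSec_eq_z0 U V z
        refine ⟨t, suppSec_injective U V ?_⟩
        rw [suppSec_map, ht, ← z0_map, ← hy]
        exact congrArg _ hz)
  exact ⟨e⟩

theorem nonempty_sections_succ (V : Opens X) : ∀ (d : ℕ) (F : CohTop.Ab X),
    TopCat.Sheaf.IsFlasque ((LocCohZ.sectSuppF U).obj F) → (∀ i < d, IsZero ((LocCohZ.HZsh U (i + 1)).obj F)) →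
    Nonempty (((LocCohZ.HZsh U (d + 1)).obj F).obj.obj (op V) ≃+ LocCohZ.HZ F (d + 1) (inf_le_left : V ⊓ U ≤ V))
  | 0, F, hF, _ => nonempty_sections_one U F hF V
  | d + 1, F, hF, h => by
    let G := LocCohZ.sectSuppF U
    have he := (isZero_HZsh_one_iff U F).1 (h 0 d.succ_pos)
    haveI := (emb_shortExact F).mono_f
    have hse : ((emb F).map G).ShortExact :=
      { exact := (emb_shortExact F).exact.map_of_mono_of_preservesKernel G (emb_shortExact F).mono_f inferInstance
        mono_f := G.map_mono (emb F).f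
        epi_g := he }
    haveI : TopCat.Sheaf.IsFlasque ((emb F).map G).X₁ := hF
    haveI : TopCat.Sheaf.IsFlasque ((emb F).map G).X₂ := by
      haveI := CohVanish.isFlasque_of_injective (emb F).X₂
      exact SSExist.isFlasque_sectSupp U (emb F).X₂
    have hQ : TopCat.Sheaf.IsFlasque ((emb F).map G).X₃ := TopCat.Sheaf.IsFlasque.of_shortExact_of_isFlasque₁₂ hse
    obtain ⟨e⟩ := nonempty_sections_succ V d (emb F).X₃ hQ
      fun i hi => (asIso (dl G (i + 1) F)).isZero_iff.2 (h (i + 1) (by omega))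
    exact ⟨((SSExist.secAb (Opens.grothendieckTopology X) V).mapIso (asIso (dl G (d + 1) F))).addCommGroupIsoToAddEquiv.symm.trans
      (e.trans (AddEquiv.ofBijective ((emb_shortExact F).extClass.postcomp _ rfl) (bijective_comp_extClass F d inf_le_left)))⟩

/-- If `ℋ^i_Y(F) = 0` for `i < d`, sections of `ℋ^d_Y(F)` over `V` are `H^d_{Y ∩ V}(V, F)`. -/
theorem nonempty_sections_of_lower_vanishing (F : CohTop.Ab X) (V : Opens X) (d : ℕ)
    (h : ∀ i < d, IsZero ((LocCohZ.HZsh U i).obj F)) :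
    Nonempty (((LocCohZ.HZsh U d).obj F).obj.obj (op V) ≃+ LocCohZ.HZ F d (inf_le_left : V ⊓ U ≤ V)) := by
  cases d with
  | zero =>
    obtain ⟨e⟩ := nonempty_suppSec_equiv U F V
    exact ⟨((SSExist.secAb (Opens.grothendieckTopology X) V).mapIso
      ((LocCohZ.sectSuppF U).rightDerivedZeroIsoSelf.app F)).addCommGroupIsoToAddEquiv.trans e⟩
  | succ d =>
    exact nonempty_sections_succ U V d F
      (isFlasque_of_isZero (((LocCohZ.sectSuppF U).rightDerivedZeroIsoSelf.app F).isZero_iff.1 (h 0 d.succ_pos)))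
      fun i hi => h (i + 1) (by omega)

end Groth.Agent.KoszulHZ
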