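import Groth.Agent.KoszulCone.Lim

/-!
Direct-limit Koszul cohomology: vanishing for torsion modules and for modules on which one of the
elements acts bijectively, exactness, and closure of acyclicity under extensions.
-/

set_option autoImplicit false
set_option linter.style.haveILetI false
universe u

open CategoryTheory CategoryTheory.Limits CochainComplex

namespace Groth.Agent.KoszulHZ

open Groth.Agent.KoszulCone

variable {A : Type u} [CommRing A]

/-- An element acting bijectively on the module acts bijectively on Koszul cohomology. -/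
lemma bijective_smul_koszulH {M : ModuleCat.{u} A} {c : A} (hc : Function.Bijective fun x : M => c • x)
    (fs : List A) (d : ℤ) : Function.Bijective fun x : (CohIII.koszulCx M fs).homology d => c • x := by
  haveI : IsIso (c • 𝟙 M) := (ConcreteCategory.isIso_iff_bijective _).2 hc
  have hmul : HomologicalComplex.homologyMap (koszulMap (c • 𝟙 M) fs) d ≫
      HomologicalComplex.homologyMap (koszulMap (inv (c • 𝟙 M)) fs) d = 𝟙 _ := by
    rw [← HomologicalComplex.homologyMap_comp, ← koszulMap_comp, IsIso.hom_inv_id, koszulMap_id,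
      HomologicalComplex.homologyMap_id]
  have hmul' : HomologicalComplex.homologyMap (koszulMap (inv (c • 𝟙 M)) fs) d ≫
      HomologicalComplex.homologyMap (koszulMap (c • 𝟙 M) fs) d = 𝟙 _ := by
    rw [← HomologicalComplex.homologyMap_comp, ← koszulMap_comp, IsIso.inv_hom_id, koszulMap_id,
      HomologicalComplex.homologyMap_id]
  haveI : IsIso (HomologicalComplex.homologyMap (koszulMap (c • 𝟙 M) fs) d) := ⟨_, hmul, hmul'⟩
  have hb := (ConcreteCategory.isIso_iff_bijective
    (HomologicalComplex.homologyMap (koszulMap (c • 𝟙 M) fs) d)).1 inferInstance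
  convert hb using 1
  funext x
  exact (smul_koszul_f M c fs d x).symm

/-- If one of the elements acts bijectively, the limit vanishes in all degrees. -/
theorem subsingleton_lim_of_bijective {M : ModuleCat.{u} A} {fs : List A} {f : A} (hf : f ∈ fs)
    (hb : Function.Bijective fun x : M => f • x) (d : ℤ) : Subsingleton (Lim M fs d) := by
  refine subsingleton_of_forall_eq 0 fun z => ?_
  obtain ⟨n, x, rfl⟩ := Module.DirectLimit.exists_of z
  have hpow : ∀ m : ℕ, Function.Bijective fun x : M => f ^ m • x := by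
    intro m
    induction m with
    | zero => simp only [pow_zero, one_smul]; exact Function.bijective_id
    | succ m ih => simpa only [pow_succ, mul_smul, Function.comp_def] using ih.comp hb
  have h0 : f ^ n • x = 0 :=
    smul_koszulH_eq_zero M _ (Ideal.subset_span (List.mem_map.2 ⟨f, hf, rfl⟩)) x
  have : x = 0 := (bijective_smul_koszulH (hpow n) _ d).1 (h0.trans (smul_zero _).symm)
  exact (congrArg (cls M fs d n) this).trans (map_zero _)

/-- A module all of whose elements are killed by powers of the elements of `fs`. -/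
def IsTors (fs : List A) (M : ModuleCat.{u} A) : Prop :=
  ∀ (m : M), ∀ f ∈ fs, ∃ k : ℕ, f ^ k • m = 0

/-- Koszul cohomology of a torsion module dies in the limit away from the bottom degree. -/
theorem exists_transH_eq_zero_of_tors (M : ModuleCat.{u} A) :
    ∀ (fs : List A), IsTors fs M → ∀ (i : ℤ), -(fs.length : ℤ) < i → ∀ (n : ℕ) (z : (powCx M fs n).homology i),
      ∃ (m : ℕ) (h : n ≤ m), transH M fs h i z = 0
  | [], _, i, hi, n, z => ⟨n, le_rfl, (transH_refl M [] i z).trans
      (koszulH_eq_zero_of_lt M [] i (Or.inl (by simpa using hi)) z)⟩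
  | f :: fs, hM, i, hi, n, z => by
    have hM' : IsTors fs M := fun m g hg => hM m g (List.mem_cons_of_mem _ hg)
    have hi' : -(fs.length : ℤ) ≤ i := by simp at hi; omega
    have comm : ∀ {n m : ℕ} (h : n ≤ m), mulBy (f ^ n) (powCx M fs n) ≫
        (f ^ (m - n) • CohIII.koszulTrans M n m h fs) =
          CohIII.koszulTrans M n m h fs ≫ mulBy (f ^ m) (powCx M fs m) := by
      intro n m h
      simp only [mulBy, Linear.smul_comp, Linear.comp_smul, Category.id_comp, Category.comp_id, smul_smul,
        ← pow_add, Nat.sub_add_cancel h, Nat.add_sub_cancel' h]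
    obtain ⟨m₁, h₁, hz⟩ := exists_transH_eq_zero_of_tors M fs hM' (i + 1) (by omega) n
      (coneδ (mulBy (f ^ n) (powCx M fs n)) i (i + 1) rfl z)
    have c := ConcreteCategory.congr_hom (coneδ_naturality (mulBy (f ^ n) (powCx M fs n))
      (mulBy (f ^ m₁) (powCx M fs m₁)) _ _ (comm h₁) i (i + 1) rfl) z
    obtain ⟨v, hv⟩ := (coneδ_eq_zero_iff (f ^ m₁) (powCx M fs m₁) i (i + 1) rfl (transH M (f :: fs) h₁ i z)).1
      (c.symm.trans hz)
    have key : ∀ {m : ℕ} (h : m₁ ≤ m), f ^ (m - m₁) • transH M fs h i v = 0 →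
        transH M (f :: fs) (h₁.trans h) i z = 0 := by
      intro m h hy
      rw [← transH_transH M (f :: fs) h₁ h i z, ← hv]
      refine (ConcreteCategory.congr_hom (coneι_naturality (mulBy (f ^ m₁) (powCx M fs m₁))
        (mulBy (f ^ m) (powCx M fs m)) _ _ (comm h) i) v).trans ?_
      refine (coneι_eq_zero_iff (f ^ m) (powCx M fs m) i _).2 ⟨0, ?_⟩
      rw [homologyMap_smul, smul_zero]
      exact hy.symm
    rcases eq_or_lt_of_le hi' with hbot | hlt
    · obtain ⟨c, hc⟩ := hM (bottomMap M (fs.map (· ^ m₁)) i (by simp; omega) v) f List.mem_cons_self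
      refine ⟨m₁ + c, h₁.trans (Nat.le_add_right _ _), key (Nat.le_add_right _ _) ?_⟩
      refine (bottomMap_spec M (fs.map (· ^ (m₁ + c))) i (by simp; omega)).1 ?_
      have e := ConcreteCategory.congr_hom (bottomMap_trans M (Nat.le_add_right m₁ c) fs i hbot.symm) v
      rw [map_smul, map_zero, Nat.add_sub_cancel_left]
      exact (congrArg (f ^ c • ·) e).trans hc
    · obtain ⟨m₂, h₂, hv0⟩ := exists_transH_eq_zero_of_tors M fs hM' i hlt m₁ v
      exact ⟨m₂, h₁.trans h₂, key h₂ (by rw [hv0, smul_zero])⟩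

theorem subsingleton_lim_of_tors (M : ModuleCat.{u} A) (fs : List A) (hM : IsTors fs M) (d : ℤ)
    (hd : -(fs.length : ℤ) < d) : Subsingleton (Lim M fs d) := by
  refine subsingleton_of_forall_eq 0 fun z => ?_
  obtain ⟨n, x, rfl⟩ := Module.DirectLimit.exists_of z
  exact (cls_eq_zero_iff M fs d x).2 (exists_transH_eq_zero_of_tors M fs hM d hd n x)

section Exact

variable {S : ShortComplex (ModuleCat.{u} A)} (hS : S.ShortExact) (fs : List A)

include hS in
lemma exact₂_lim (d : ℤ) (w : Lim S.X₂ fs d) (hw : limMap S.g fs d w = 0) :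
    ∃ v, limMap S.f fs d v = w := by
  obtain ⟨n, x, rfl⟩ := Module.DirectLimit.exists_of w
  obtain ⟨m, h, hm⟩ := (cls_eq_zero_iff S.X₃ fs d _).1 ((limMap_cls S.g fs d n x).symm.trans hw)
  have e := ConcreteCategory.congr_hom
    (congrArg (fun k => HomologicalComplex.homologyMap k d) (koszulTrans_naturality S.g h fs)) x
  simp only [HomologicalComplex.homologyMap_comp] at e
  obtain ⟨y, hy⟩ := (ShortComplex.moduleCat_exact_iff _).1
    ((koszulShortComplex_shortExact hS (fs.map (· ^ m))).homology_exact₂ d)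
    (transH S.X₂ fs h d x) (e.trans hm)
  exact ⟨cls S.X₁ fs d m y, (limMap_cls S.f fs d m y).trans
    ((congrArg (cls S.X₂ fs d m) hy).trans (cls_trans _ _ _ h _))⟩

include hS in
lemma exact₁_lim (d d' : ℤ) (hd : d + 1 = d') (w : Lim S.X₁ fs d') (hw : limMap S.f fs d' w = 0) :
    ∃ v, limδ hS fs d d' hd v = w := by
  obtain ⟨n, x, rfl⟩ := Module.DirectLimit.exists_of w
  obtain ⟨m, h, hm⟩ := (cls_eq_zero_iff S.X₂ fs d' _).1 ((limMap_cls S.f fs d' n x).symm.trans hw)
  have e := ConcreteCategory.congr_hom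
    (congrArg (fun k => HomologicalComplex.homologyMap k d') (koszulTrans_naturality S.f h fs)) x
  simp only [HomologicalComplex.homologyMap_comp] at e
  obtain ⟨y, hy⟩ := (ShortComplex.moduleCat_exact_iff _).1
    ((koszulShortComplex_shortExact hS (fs.map (· ^ m))).homology_exact₁ d d' hd)
    (transH S.X₁ fs h d' x) (e.trans hm)
  exact ⟨cls S.X₃ fs d m y, (limδ_cls hS fs d d' hd m y).trans
    ((congrArg (cls S.X₁ fs d' m) hy).trans (cls_trans _ _ _ h _))⟩

include hS in
/-- Acyclicity is closed under extensions. -/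
theorem subsingleton_lim₂ (d : ℤ) (h₁ : Subsingleton (Lim S.X₁ fs d)) (h₃ : Subsingleton (Lim S.X₃ fs d)) :
    Subsingleton (Lim S.X₂ fs d) := by
  refine subsingleton_of_forall_eq 0 fun w => ?_
  obtain ⟨v, rfl⟩ := exact₂_lim hS fs d w (h₃.elim _ _)
  rw [h₁.elim v 0, map_zero]

include hS in
/-- `g` is bijective in a degree when the first term vanishes there and above. -/
theorem bijective_limMap_g (d d' : ℤ) (hd : d + 1 = d') (h₁ : Subsingleton (Lim S.X₁ fs d))
    (h₁' : Subsingleton (Lim S.X₁ fs d')) : Function.Bijective (limMap S.g fs d) := by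
  refine ⟨(injective_iff_map_eq_zero _).2 fun w hw => ?_, fun w => ?_⟩
  · obtain ⟨v, rfl⟩ := exact₂_lim hS fs d w hw
    rw [h₁.elim v 0, map_zero]
  · exact (limδ_eq_zero_iff hS fs d d' hd w).1 (h₁'.elim _ _)

include hS in
/-- The connecting map is bijective when the middle term vanishes. -/
theorem bijective_limδ (d d' : ℤ) (hd : d + 1 = d') (h₂ : Subsingleton (Lim S.X₂ fs d))
    (h₂' : Subsingleton (Lim S.X₂ fs d')) : Function.Bijective (limδ hS fs d d' hd) := by
  refine ⟨(injective_iff_map_eq_zero _).2 fun w hw => ?_, fun w => exact₁_lim hS fs d d' hd w (h₂'.elim _ _)⟩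
  obtain ⟨v, rfl⟩ := (limδ_eq_zero_iff hS fs d d' hd w).1 hw
  rw [h₂.elim v 0, map_zero]

end Exact

end Groth.Agent.KoszulHZ
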