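import Groth.Agent.KoszulHZ.Sp
import Mathlib.Algebra.Module.LocalizedModule.Basic

/-!
`colim_n H^i(f^n, M) ≅ H^i_Y(Spec A, M~)` for `Y = V(f)`, over any commutative ring.
-/

set_option autoImplicit false
set_option linter.style.haveILetI false
set_option backward.isDefEq.respectTransparency false
universe u

open CategoryTheory CategoryTheory.Limits Opposite TopologicalSpace AlgebraicGeometry Abelian

namespace Groth.Agent.KoszulHZ

open Groth.Agent.CohVanish Groth.Agent.KoszulCone
open scoped Groth.Agent.CohVanish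

variable {R : CommRingCat.{u}}

/-- `H^i_Y(Spec A, M~)`. -/
noncomputable abbrev HZT (fs : List R) (M : ModuleCat.{u} R) (i : ℕ) : Type u :=
  LocCohZ.HZc ((Φ R).obj M) i (U fs)

/-- Both theories vanish in all degrees. -/
def Acyc (fs : List R) (M : ModuleCat.{u} R) : Prop :=
  (∀ d : ℤ, Subsingleton (Lim M fs d)) ∧ ∀ i : ℕ, Subsingleton (HZT fs M i)

theorem shortExact_Φ {S : ShortComplex (ModuleCat.{u} R)} (hS : S.ShortExact) : (S.map (Φ R)).ShortExact :=
  shortExact_toAb (hS.map_of_exact (tilde.functor R))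

section LES

variable {S : ShortComplex (ModuleCat.{u} R)} (hS : S.ShortExact) (fs : List R)

include hS in
theorem subsingleton_HZT₂ (i : ℕ) (h₁ : Subsingleton (HZT fs S.X₁ i)) (h₃ : Subsingleton (HZT fs S.X₃ i)) :
    Subsingleton (HZT fs S.X₂ i) := by
  refine subsingleton_of_forall_eq 0 fun x => ?_
  obtain ⟨y, rfl⟩ := Ext.covariant_sequence_exact₂ _ (shortExact_Φ hS) x (h₃.elim _ _)
  rw [show y = 0 from h₁.elim _ _]
  exact Ext.zero_comp _ _ _ _ _

include hS in
theorem bijective_map_g (i : ℕ) (h₁ : Subsingleton (HZT fs S.X₁ i)) (h₁' : Subsingleton (HZT fs S.X₁ (i + 1))) :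
    Function.Bijective (LocCohZ.map ((Φ R).map S.g) i (le_top : U fs ≤ ⊤)) := by
  refine ⟨(injective_iff_map_eq_zero _).2 fun x hx => ?_, fun x => ?_⟩
  · obtain ⟨y, rfl⟩ := Ext.covariant_sequence_exact₂ _ (shortExact_Φ hS) x hx
    rw [show y = 0 from h₁.elim _ _]
    exact Ext.zero_comp _ _ _ _ _
  · exact Ext.covariant_sequence_exact₃ _ (shortExact_Φ hS) x (rfl : i + 1 = i + 1) (h₁'.elim _ _)

include hS in
theorem bijective_δ (i : ℕ) (h₂ : Subsingleton (HZT fs S.X₂ i)) (h₂' : Subsingleton (HZT fs S.X₂ (i + 1))) :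
    Function.Bijective ((shortExact_Φ hS).extClass.postcomp (LocCohZ.zq (le_top : U fs ≤ ⊤)) (rfl : i + 1 = i + 1)) := by
  refine ⟨(injective_iff_map_eq_zero _).2 fun x hx => ?_, fun x => ?_⟩
  · obtain ⟨y, rfl⟩ := Ext.covariant_sequence_exact₃ _ (shortExact_Φ hS) x (rfl : i + 1 = i + 1) hx
    rw [show y = 0 from h₂.elim _ _]
    exact Ext.zero_comp _ _ _ _ _
  · exact Ext.covariant_sequence_exact₁ _ (shortExact_Φ hS) x (h₂'.elim _ _) rfl

include hS in
theorem acyc₂ (h₁ : Acyc fs S.X₁) (h₃ : Acyc fs S.X₃) : Acyc fs S.X₂ :=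
  ⟨fun d => subsingleton_lim₂ hS fs d (h₁.1 d) (h₃.1 d), fun i => subsingleton_HZT₂ hS fs i (h₁.2 i) (h₃.2 i)⟩

end LES

theorem acyc_of_bijective {fs : List R} (L : ModuleCat.{u} R) {f : R} (hf : f ∈ fs)
    (hb : Function.Bijective fun x : L => f • x) : Acyc fs L :=
  ⟨subsingleton_lim_of_bijective hf hb, subsingleton_HZ_of_bijective L hf hb⟩

theorem acyc_of_subsingleton (fs : List R) (L : ModuleCat.{u} R) [Subsingleton L] : Acyc fs L := by
  have ht : IsTors fs L := fun m f _ => ⟨0, Subsingleton.elim _ _⟩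
  refine ⟨fun d => ?_, fun i => ?_⟩
  · refine subsingleton_of_forall_eq 0 fun z => ?_
    obtain ⟨n, x, rfl⟩ := Module.DirectLimit.exists_of z
    have hz : IsZero ((powCx L fs n).homology d) := by
      have h0 : HomologicalComplex.homologyMap (koszulMap (𝟙 L) (fs.map (· ^ n))) d = 0 := by
        rw [(ModuleCat.isZero_of_subsingleton L).eq_of_src (𝟙 L) 0, koszulMap_zero,
          HomologicalComplex.homologyMap_zero]
      rw [koszulMap_id, HomologicalComplex.homologyMap_id] at h0
      exact (IsZero.iff_id_eq_zero _).2 h0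
    haveI := ModuleCat.subsingleton_of_isZero hz
    exact (congrArg (cls L fs d n) (Subsingleton.elim x 0)).trans (map_zero _)
  · refine subsingleton_of_forall_eq 0 fun x => ?_
    have h0 : (Φ R).map (𝟙 L) = 0 := by
      rw [(ModuleCat.isZero_of_subsingleton L).eq_of_src (𝟙 L) 0, Functor.map_zero]
    rw [CategoryTheory.Functor.map_id] at h0
    rw [← Ext.comp_mk₀_id x, h0, Ext.mk₀_zero, Ext.comp_zero]

theorem acyc_pi (fs : List R) : ∀ (n : ℕ) (L : Fin n → ModuleCat.{u} R), (∀ j, Acyc fs (L j)) →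
    Acyc fs (ModuleCat.of R (∀ j, L j))
  | 0, L, _ => acyc_of_subsingleton fs _
  | n + 1, L, hL => by
    let π : (∀ j, L j) →ₗ[R] (∀ j : Fin n, L j.succ) := LinearMap.pi fun j => LinearMap.proj j.succ
    let ι : L 0 →ₗ[R] (∀ j, L j) := LinearMap.single R (fun j => L j) 0
    have hz : ModuleCat.ofHom ι ≫ ModuleCat.ofHom π = 0 := by
      apply ModuleCat.hom_ext
      refine LinearMap.ext fun x => funext fun j => ?_
      simp [ι, π]
      rfl
    let S : ShortComplex (ModuleCat.{u} R) := ShortComplex.mk (ModuleCat.ofHom ι) (ModuleCat.ofHom π) hz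
    have hS : S.ShortExact :=
      { exact := (ShortComplex.moduleCat_exact_iff S).2 fun x hx => ⟨x 0, funext fun j => by
          refine Fin.cases ?_ (fun k => ?_) j
          · change ι (x 0) 0 = x 0
            simp [ι]
          · change ι (x 0) k.succ = x k.succ
            have hk : x k.succ = 0 := congrFun hx k
            simp [ι, hk]⟩
        mono_f := (ModuleCat.mono_iff_injective _).2 (fun a b h => Pi.single_injective (0 : Fin (n + 1)) h)
        epi_g := (ModuleCat.epi_iff_surjective _).2 fun y => ⟨Fin.cons 0 y, funext fun j => by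
          change π (Fin.cons 0 y) j = y j
          simp [π]⟩ }
    exact acyc₂ hS fs (hL 0) (acyc_pi fs n (fun j => L j.succ) fun j => hL j.succ)

theorem mem_range_limBottom_iff (fs : List R) (M : ModuleCat.{u} R) (d : ℤ) (hd : d = -(fs.length : ℤ)) (m : M) :
    (∃ z, limBottom M fs d hd z = m) ↔ ∀ f ∈ fs, ∃ k : ℕ, f ^ k • m = 0 := by
  rw [limBottom_mem_range_iff]
  constructor
  · rintro ⟨n, hn⟩ f hf
    exact ⟨n, hn _ (Ideal.pow_mem_pow (Ideal.subset_span (α := R) (s := {a | a ∈ fs}) hf) n)⟩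
  · intro h
    obtain ⟨k, hk⟩ := Ideal.exists_pow_le_of_le_radical_of_fg (I := Ideal.span ({a | a ∈ fs} : Set R))
      (J := LinearMap.ker (LinearMap.toSpanSingleton R M m))
      (Ideal.span_le.2 fun a ha => h a ha) (Submodule.fg_span (List.finite_toSet fs))
    exact ⟨k, fun a ha => hk ha⟩

/-- The global section of `M~` given by an element. -/
noncomputable abbrev secTop (M : ModuleCat.{u} R) : M →+ ((Φ R).obj M).obj.obj (op ⊤) :=
  (tilde.toOpen M ⊤).hom.toAddMonoidHom

theorem bijective_secTop (M : ModuleCat.{u} R) : Function.Bijective (secTop M) :=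
  ConcreteCategory.bijective_of_isIso (tilde.toOpen M ⊤)

theorem res_secTop_eq_zero_iff (fs : List R) (M : ModuleCat.{u} R) (m : M) :
    ((Φ R).obj M).obj.map (homOfLE (le_top : U fs ≤ ⊤)).op (secTop M m) = 0 ↔
      ∀ f ∈ fs, ∃ k : ℕ, f ^ k • m = 0 := by
  have hres : ∀ (W : Opens (SpA R)), ((Φ R).obj M).obj.map (homOfLE (le_top : W ≤ ⊤)).op (secTop M m) =
      tilde.toOpen M W m := fun W => congr($(tilde.toOpen_res M ⊤ W (homOfLE le_top)) m)
  constructor
  · intro h f hf
    have h2 : toB M f m = 0 := by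
      rw [← show ((Φ R).obj M).obj.map (homOfLE (le_top : bas R f ≤ ⊤)).op (secTop M m) = toB M f m from hres _,
        show (homOfLE (le_top : bas R f ≤ ⊤)).op = (homOfLE (le_top : U fs ≤ ⊤)).op ≫
          (homOfLE (basicOpen_le_U hf)).op from Subsingleton.elim _ _, Functor.map_comp]
      rw [ConcreteCategory.comp_apply, h, map_zero]
    obtain ⟨⟨_, k, rfl⟩, hk⟩ := (IsLocalizedModule.eq_zero_iff (Submonoid.powers f) (toB M f)).1 h2
    exact ⟨k, hk⟩
  · intro h
    refine TopCat.Sheaf.eq_of_locally_eq' ((Φ R).obj M) (fun f : {f // f ∈ fs} => bas R f.1) (U fs)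
      (fun f => homOfLE (basicOpen_le_U f.2)) (fun y hy => ?_) _ 0 fun f => ?_
    · obtain ⟨f, hf, hy'⟩ := exists_mem_basicOpen hy
      exact Opens.mem_iSup.2 ⟨⟨f, hf⟩, hy'⟩
    · rw [map_zero, ← ConcreteCategory.comp_apply, ← Functor.map_comp,
        show (homOfLE (le_top : U fs ≤ ⊤)).op ≫ (homOfLE (basicOpen_le_U f.2)).op =
          (homOfLE (le_top : bas R f.1 ≤ ⊤)).op from Subsingleton.elim _ _]
      refine (hres (bas R f.1)).trans ?_
      obtain ⟨k, hk⟩ := h f.1 f.2
      exact (IsLocalizedModule.eq_zero_iff (Submonoid.powers f.1) (toB M f.1)).2 ⟨⟨f.1 ^ k, k, rfl⟩, hk⟩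

theorem nonempty_equiv_zero (fs : List R) (M : ModuleCat.{u} R) :
    Nonempty (Lim M fs (((0 : ℕ) : ℤ) - fs.length) ≃+ HZT fs M 0) := by
  let d : ℤ := ((0 : ℕ) : ℤ) - fs.length
  have hd : d = -(fs.length : ℤ) := by simp [d]
  let g : Lim M fs d →+ LocCohZ.sectZ ((Φ R).obj M) (le_top : U fs ≤ ⊤) :=
    ((secTop M).comp (limBottom M fs d hd).toAddMonoidHom).codRestrict _ fun z =>
      (res_secTop_eq_zero_iff fs M _).2 ((mem_range_limBottom_iff fs M d hd _).1 ⟨z, rfl⟩)
  have hg : Function.Bijective g := by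
    refine ⟨fun a b h => limBottom_injective M fs d hd ((bijective_secTop M).1 (congrArg Subtype.val h)),
      fun ⟨s, hs⟩ => ?_⟩
    obtain ⟨m, rfl⟩ := (bijective_secTop M).2 s
    obtain ⟨z, rfl⟩ := (mem_range_limBottom_iff fs M d hd m).2 ((res_secTop_eq_zero_iff fs M m).1 hs)
    exact ⟨z, rfl⟩
  exact ⟨(AddEquiv.ofBijective g hg).trans (LocCohZ.sect0Equiv ((Φ R).obj M) le_top).symm⟩

/-- The comparison. -/
theorem nonempty_equiv (fs : List R) : ∀ (i : ℕ) (M : ModuleCat.{u} R),
    Nonempty (Lim M fs ((i : ℤ) - fs.length) ≃+ HZT fs M i)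
  | 0, M => nonempty_equiv_zero fs M
  | i + 1, M => by
    let L : Fin fs.length → ModuleCat.{u} R := fun j =>
      ModuleCat.of R (LocalizedModule (Submonoid.powers (fs.get j)) M)
    let π : M →ₗ[R] (∀ j, L j) := LinearMap.pi fun j =>
      LocalizedModule.mkLinearMap (Submonoid.powers (fs.get j)) M
    let S₁ : ShortComplex (ModuleCat.{u} R) :=
      ShortComplex.mk (ModuleCat.ofHom (LinearMap.ker π).subtype) (ModuleCat.ofHom π.rangeRestrict)
        (by apply ModuleCat.hom_ext; refine LinearMap.ext fun x => Subtype.ext ?_; exact LinearMap.mem_ker.1 x.2)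
    have hS₁ : S₁.ShortExact :=
      { exact := (ShortComplex.moduleCat_exact_iff S₁).2 fun x hx => ⟨⟨x, congrArg Subtype.val hx⟩, rfl⟩
        mono_f := (ModuleCat.mono_iff_injective _).2 Subtype.val_injective
        epi_g := (ModuleCat.epi_iff_surjective _).2 π.surjective_rangeRestrict }
    let S₂ : ShortComplex (ModuleCat.{u} R) :=
      ShortComplex.mk (ModuleCat.ofHom (LinearMap.range π).subtype) (ModuleCat.ofHom (LinearMap.range π).mkQ)
        (by ext x; exact (Submodule.Quotient.mk_eq_zero _).2 x.2)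
    have hS₂ : S₂.ShortExact :=
      { exact := (ShortComplex.moduleCat_exact_iff S₂).2 fun x hx =>
          ⟨⟨x, (Submodule.Quotient.mk_eq_zero _).1 hx⟩, rfl⟩
        mono_f := (ModuleCat.mono_iff_injective _).2 Subtype.val_injective
        epi_g := (ModuleCat.epi_iff_surjective _).2 (Submodule.mkQ_surjective _) }
    have hT : IsTors fs S₁.X₁ := fun m f hf => by
      obtain ⟨j, rfl⟩ := List.get_of_mem hf
      obtain ⟨⟨_, k, rfl⟩, hk⟩ := (IsLocalizedModule.eq_zero_iff (Submonoid.powers (fs.get j))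
        (LocalizedModule.mkLinearMap (Submonoid.powers (fs.get j)) M)).1 (congrFun m.2 j)
      exact ⟨k, Subtype.ext hk⟩
    have hP : Acyc fs S₂.X₂ := acyc_pi fs fs.length L fun j => acyc_of_bijective (L j) (List.get_mem fs j)
      ((Module.End.isUnit_iff _).1 (IsLocalizedModule.map_units
        (LocalizedModule.mkLinearMap (Submonoid.powers (fs.get j)) M)
        (⟨fs.get j, Submonoid.mem_powers _⟩ : Submonoid.powers (fs.get j))))
    have hd : ((i : ℤ) - fs.length) + 1 = ((i + 1 : ℕ) : ℤ) - fs.length := by push_cast; ring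
    have hd' : (((i + 1 : ℕ) : ℤ) - fs.length) + 1 = ((i + 2 : ℕ) : ℤ) - fs.length := by push_cast; ring
    have hb₁ := bijective_limMap_g hS₁ fs _ _ hd'
      (subsingleton_lim_of_tors S₁.X₁ fs hT _ (by push_cast; omega))
      (subsingleton_lim_of_tors S₁.X₁ fs hT _ (by push_cast; omega))
    have hb₂ := bijective_limδ hS₂ fs _ _ hd (hP.1 _) (hP.1 _)
    have hc₁ := bijective_map_g hS₁ fs (i + 1) (subsingleton_HZ_of_tors S₁.X₁ hT i)
      (subsingleton_HZ_of_tors S₁.X₁ hT (i + 1))
    have hc₂ := bijective_δ hS₂ fs i (hP.2 i) (hP.2 (i + 1))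
    obtain ⟨e⟩ := nonempty_equiv fs i S₂.X₃
    exact ⟨(AddEquiv.ofBijective (limMap S₁.g fs _).toAddMonoidHom hb₁).trans
      ((AddEquiv.ofBijective (limδ hS₂ fs _ _ hd).toAddMonoidHom hb₂).symm.trans
        (e.trans ((AddEquiv.ofBijective _ hc₂).trans (AddEquiv.ofBijective _ hc₁).symm)))⟩

end Groth.Agent.KoszulHZ
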