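import Groth.Agent.CohVanish.Affine
import Groth.Agent.CohVanish.Sections
import Groth.Agent.KerDerived.Local
import Groth.Agent.KoszulHZ.Kz
import Groth.Prelude.Def_Wider

/-!
Cohomology with supports of `M~` on an affine scheme: vanishing for torsion modules and for modules
on which an element of the ideal acts bijectively.
-/

set_option autoImplicit false
set_option linter.style.haveILetI false
set_option backward.isDefEq.respectTransparency false
universe u

open CategoryTheory CategoryTheory.Limits Opposite TopologicalSpace AlgebraicGeometry Abelian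

namespace Groth.Agent.KoszulHZ

open Groth.Agent.CohVanish
open scoped Groth.Agent.CohVanish

variable {R : CommRingCat.{u}}

/-- `Spec A` as a space. -/
noncomputable abbrev SpA (R : CommRingCat.{u}) : TopCat.{u} := sp (Spec R)

/-- `M ↦ M~` as an abelian sheaf. -/
noncomputable abbrev Φ (R : CommRingCat.{u}) : ModuleCat.{u} R ⥤ AbSh (SpA R) :=
  tilde.functor R ⋙ toAbF (Spec R)

/-- The complement of the zero locus of the list. -/
noncomputable abbrev U (fs : List R) : Opens (SpA R) := LocCoh.puncturedOpen R (Ideal.span {a | a ∈ fs})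

lemma basicOpen_le_U {fs : List R} {f : R} (hf : f ∈ fs) :
    bas R f ≤ U fs := fun _ hx h0 => hx (h0 (Ideal.subset_span hf))

lemma exists_mem_basicOpen {fs : List R} {x : SpA R} (hx : x ∈ U fs) :
    ∃ f ∈ fs, x ∈ bas R f := by
  by_contra h
  refine hx (Ideal.span_le.2 fun f hf => ?_)
  by_contra hxf
  exact h ⟨f, hf, hxf⟩

/-- Sections of `M~` over a basic open localise `M`. -/
noncomputable abbrev toB (M : ModuleCat.{u} R) (g : R) :=
  (tilde.toOpen (R := CommRingCat.of R) M (PrimeSpectrum.basicOpen g)).hom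

theorem subsingleton_sections_basicOpen (T : ModuleCat.{u} R) (g : R) (h : ∀ m : T, ∃ k : ℕ, g ^ k • m = 0) :
    Subsingleton ((Φ R).obj T |>.obj.obj (op (PrimeSpectrum.basicOpen g))) := by
  refine subsingleton_of_forall_eq 0 fun s => ?_
  obtain ⟨⟨m, ⟨_, k, rfl⟩⟩, hk⟩ := IsLocalizedModule.surj (Submonoid.powers g) (toB T g) s
  obtain ⟨l, hl⟩ := h m
  have h0 : toB T g m = 0 :=
    (IsLocalizedModule.eq_zero_iff (Submonoid.powers g) (toB T g)).2 ⟨⟨g ^ l, l, rfl⟩, hl⟩
  exact ((Module.End.isUnit_iff _).1 (IsLocalizedModule.map_units (toB T g)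
    (⟨g ^ k, k, rfl⟩ : Submonoid.powers g))).1 ((hk.trans h0).trans (map_zero _).symm)

theorem tors_sections_eq_zero {fs : List R} (T : ModuleCat.{u} R) (hT : IsTors fs T) (W : Opens (SpA R))
    (hW : W ≤ U fs) (s : (Φ R).obj T |>.obj.obj (op W)) : s = 0 := by
  have key : ∀ x : W, ∃ g : R, bas R g ≤ W ∧ x.1 ∈ bas R g ∧
      ∀ m : T, ∃ k : ℕ, g ^ k • m = 0 := by
    intro x
    obtain ⟨f, hf, hxf⟩ := exists_mem_basicOpen (hW x.2)
    obtain ⟨_, ⟨g, rfl⟩, hxg, hgW⟩ :=
      Opens.isBasis_iff_nbhd.mp (isBasis_bas R) (U := W ⊓ bas R f) ⟨x.2, hxf⟩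
    refine ⟨g, hgW.trans inf_le_left, hxg, fun m => ?_⟩
    obtain ⟨n, hn⟩ := (PrimeSpectrum.basicOpen_le_basicOpen_iff g f).1 (hgW.trans inf_le_right)
    obtain ⟨c, hc⟩ := Ideal.mem_span_singleton'.1 hn
    obtain ⟨k, hk⟩ := hT m f hf
    exact ⟨n * k, by rw [pow_mul, ← hc, mul_pow, mul_smul, hk, smul_zero]⟩
  choose g hgW hxg hg using key
  refine TopCat.Sheaf.eq_of_locally_eq' ((Φ R).obj T) (fun x : W => bas R (g x)) W
    (fun x => homOfLE (hgW x)) (fun y hy => Opens.mem_iSup.2 ⟨⟨y, hy⟩, hxg ⟨y, hy⟩⟩) s 0 fun x => ?_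
  exact (subsingleton_sections_basicOpen T (g x) (hg x)).elim _ _

theorem subsingleton_EU_of_tors {fs : List R} (T : ModuleCat.{u} R) (hT : IsTors fs T) (n : ℕ) :
    Subsingleton (EU ((Φ R).obj T) (U fs) n) := by
  let V : (Spec R).Opens := U fs
  obtain ⟨e⟩ := nonempty_EU_equiv_HH V.ι (tilde (R := CommRingCat.of R) T) n
  rw [Scheme.Opens.opensRange_ι] at e
  have hz : IsZero ((tilde (R := CommRingCat.of R) T).restrict V.ι) := by
    rw [IsZero.iff_id_eq_zero]
    refine SheafOfModules.hom_ext (PresheafOfModules.hom_ext fun W => ?_)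
    ext s
    exact tors_sections_eq_zero T hT (V.ι ''ᵁ W.unop) (by
      rintro _ ⟨y, -, rfl⟩
      exact y.2) _
  have := subsingleton_HH_of_isZero hz n
  exact e.injective.subsingleton

theorem subsingleton_EU_top (M : ModuleCat.{u} R) (n : ℕ) :
    Subsingleton (EU ((Φ R).obj M) (⊤ : Opens (SpA R)) (n + 1)) :=
  subsingleton_EU_of_isAffineOpen (X := Spec R) (tilde (R := CommRingCat.of R) M)
    (isAffineOpen_top (Spec R)) n

theorem subsingleton_HZ_of_tors {fs : List R} (T : ModuleCat.{u} R) (hT : IsTors fs T) (i : ℕ) :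
    Subsingleton (LocCohZ.HZc ((Φ R).obj T) (i + 1) (U fs)) := by
  haveI := subsingleton_EU_of_tors T hT i
  haveI := subsingleton_EU_top T i
  exact KerDerived.subsingleton_HZ_succ _ i (fun x => ⟨0, Subsingleton.elim (α := EU ((Φ R).obj T) (U fs) i) _ _⟩)
    fun a b _ => Subsingleton.elim (α := EU ((Φ R).obj T) ⊤ (i + 1)) a b

theorem subsingleton_EU_of_bijective {fs : List R} (L : ModuleCat.{u} R) {f : R} (hf : f ∈ fs)
    (hb : Function.Bijective fun x : L => f • x) (n : ℕ) : Subsingleton (EU ((Φ R).obj L) (U fs) (n + 1)) := by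
  refine subsingleton_of_forall_eq 0 fun a => ?_
  rw [← eMap_id (U fs) (n + 1) a]
  refine eMap_eq_zero_of_isLocalAt (bas R) (isBasis_bas _) (bas R f) (𝟙 _)
    (isLocalAt_tilde L f hb) (U fs) n (fun g m _ => ?_) a ?_
  · rw [show bas R g ⊓ bas R f = PrimeSpectrum.basicOpen (g * f) from
      (PrimeSpectrum.basicOpen_mul g f).symm]
    exact subsingleton_EU_of_isAffineOpen (X := Spec R) (tilde (R := CommRingCat.of R) L)
      (IsAffineOpen.Spec_basicOpen (R := CommRingCat.of R) _) m
  · have hsub : Subsingleton (EU ((Φ R).obj L) (U fs ⊓ bas R f) (n + 1)) := by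
      rw [inf_eq_right.2 (basicOpen_le_U hf)]
      exact subsingleton_EU_of_isAffineOpen (X := Spec R) (tilde (R := CommRingCat.of R) L)
        (IsAffineOpen.Spec_basicOpen (R := CommRingCat.of R) f) n
    exact hsub.elim _ _

theorem bijective_res_zero_of_bijective {fs : List R} (L : ModuleCat.{u} R) {f : R} (hf : f ∈ fs)
    (hb : Function.Bijective fun x : L => f • x) :
    Function.Bijective (CohTop.res ((Φ R).obj L) 0 (le_top : U fs ≤ ⊤)) := by
  haveI : IsIso ((meetUnit (bas R f)).app ((Φ R).obj L)) := isLocalAt_tilde L f hb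
  have hsec : ∀ W : Opens (SpA R),
      Function.Bijective (((Φ R).obj L).obj.map (homOfLE (inf_le_left : W ⊓ bas R f ≤ W)).op) :=
    fun W => (ConcreteCategory.isIso_iff_bijective
      (((meetUnit (bas R f)).app ((Φ R).obj L)).hom.app (op W))).1
        (NatIso.isIso_app_of_isIso
          ((sheafToPresheaf _ _).map ((meetUnit (bas R f)).app ((Φ R).obj L))) (op W))
  have hmap : Function.Bijective (((Φ R).obj L).obj.map (homOfLE (le_top : U fs ≤ ⊤)).op) := by
    let V := bas R f
    have e : ((Φ R).obj L).obj.map (homOfLE (le_top : U fs ≤ ⊤)).op ≫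
        ((Φ R).obj L).obj.map (homOfLE (inf_le_left : U fs ⊓ V ≤ U fs)).op =
        ((Φ R).obj L).obj.map (homOfLE (inf_le_left : (⊤ : Opens (SpA R)) ⊓ V ≤ ⊤)).op ≫
          ((Φ R).obj L).obj.map (homOfLE (le_inf le_top inf_le_right : U fs ⊓ V ≤ ⊤ ⊓ V)).op := by
      rw [← Functor.map_comp, ← Functor.map_comp]
      rfl
    haveI := (ConcreteCategory.isIso_iff_bijective _).2 (hsec (U fs))
    haveI := (ConcreteCategory.isIso_iff_bijective _).2 (hsec ⊤)
    haveI : IsIso (homOfLE (le_inf le_top inf_le_right : U fs ⊓ V ≤ ⊤ ⊓ V)) :=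
      ⟨homOfLE (le_inf (le_trans inf_le_right (basicOpen_le_U hf)) inf_le_right),
        Subsingleton.elim _ _, Subsingleton.elim _ _⟩
    refine (ConcreteCategory.isIso_iff_bijective _).1 ?_
    haveI : IsIso (((Φ R).obj L).obj.map (homOfLE (le_top : U fs ≤ ⊤)).op ≫
        ((Φ R).obj L).obj.map (homOfLE (inf_le_left : U fs ⊓ V ≤ U fs)).op) := by
      rw [e]; infer_instance
    exact IsIso.of_isIso_comp_right _ (((Φ R).obj L).obj.map (homOfLE (inf_le_left : U fs ⊓ V ≤ U fs)).op)
  have heq : ∀ x, eu0 (U fs) _ (CohTop.res ((Φ R).obj L) 0 (le_top : U fs ≤ ⊤) x) =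
      ((Φ R).obj L).obj.map (homOfLE (le_top : U fs ≤ ⊤)).op (eu0 ⊤ _ x) :=
    fun x => eu0_eRes ((Φ R).obj L) (homOfLE le_top) x
  constructor
  · intro a b hab
    apply (eu0 ⊤ ((Φ R).obj L)).injective
    apply hmap.1
    exact (heq a).symm.trans ((congrArg _ hab).trans (heq b))
  · intro y
    obtain ⟨s, hs⟩ := hmap.2 (eu0 (U fs) _ y)
    refine ⟨(eu0 ⊤ ((Φ R).obj L)).symm s, (eu0 (U fs) ((Φ R).obj L)).injective ?_⟩
    rw [← hs]
    exact (heq _).trans (congrArg _ ((eu0 ⊤ ((Φ R).obj L)).apply_symm_apply s))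

theorem subsingleton_HZ_of_bijective {fs : List R} (L : ModuleCat.{u} R) {f : R} (hf : f ∈ fs)
    (hb : Function.Bijective fun x : L => f • x) (i : ℕ) :
    Subsingleton (LocCohZ.HZc ((Φ R).obj L) i (U fs)) := by
  cases i with
  | zero => exact KerDerived.subsingleton_HZ_zero _ (bijective_res_zero_of_bijective L hf hb).1
  | succ i =>
    haveI := subsingleton_EU_top L i
    refine KerDerived.subsingleton_HZ_succ _ i ?_
      fun a b _ => Subsingleton.elim (α := EU ((Φ R).obj L) ⊤ (i + 1)) a b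
    cases i with
    | zero => exact (bijective_res_zero_of_bijective L hf hb).2
    | succ i =>
      haveI := subsingleton_EU_of_bijective L hf hb i
      exact fun y => ⟨0, Subsingleton.elim (α := EU ((Φ R).obj L) (U fs) (i + 1)) _ _⟩

end Groth.Agent.KoszulHZ
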